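import Groth.Agent.H3CAlg.ARS.Linear
import Mathlib.CategoryTheory.Limits.HasLimits

/-!
# Isomorphisms up to translation and systems adic up to translation
-/

universe w v u

open CategoryTheory CategoryTheory.Limits Opposite

namespace Groth.Agent.H3CAlg.ARS

variable {C : Type u} [Category.{v} C] [Abelian C]

section Comp

variable {X Y Z : ARSys.PS C}

theorem isARIso_id (X : ARSys.PS C) : ARSys.IsARIso (𝟙 X) :=
  isARIso_of_inverse _ 0 (fun n => 𝟙 (X.obj (op n))) (fun n => by simp) (fun n => by simp)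

theorem isARIso_comp {u : X ⟶ Y} {v : Y ⟶ Z} (hu : ARSys.IsARIso u) (hv : ARSys.IsARIso v) :
    ARSys.IsARIso (u ≫ v) := by
  obtain ⟨R, w, hw₁, hw₂, hw₃⟩ := exists_inverse_of_isARIso u hu
  obtain ⟨S, z, hz₁, hz₂, hz₃⟩ := exists_inverse_of_isARIso v hv
  refine isARIso_of_inverse _ (R + S)
    (fun n => ARSys.tr Z (show n + R + S ≤ n + (R + S) by omega) ≫ z (n + R) ≫ w n)
    (fun n => ?_) (fun n => ?_)
  · simp only [NatTrans.comp_app, Category.assoc, reassoc_of% hw₁ n, tr_naturality,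
      reassoc_of% hz₁ (n + R), tr_tr]
  · simp only [NatTrans.comp_app, Category.assoc]
    rw [← tr_naturality_assoc, reassoc_of% hz₂ (n + R), tr_tr_assoc, ← tr_naturality_assoc, hw₂,
      tr_tr]

theorem isARIso_of_comp_left {u : X ⟶ Y} {v : Y ⟶ Z} (hu : ARSys.IsARIso u)
    (huv : ARSys.IsARIso (u ≫ v)) : ARSys.IsARIso v := by
  obtain ⟨S, a, ha₁, ha₂, ha₃⟩ := exists_inverse_of_isARIso u hu
  obtain ⟨T, b, hb₁, hb₂, hb₃⟩ := exists_inverse_of_isARIso (u ≫ v) huv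
  simp only [NatTrans.comp_app] at hb₁ hb₂
  refine isARIso_of_inverse v (T + S)
    (fun n => ARSys.tr Z (show n + T ≤ n + (T + S) by omega) ≫ b n ≫ u.app (op n))
    (fun n => ?_) (fun n => ?_)
  · simp only [Category.assoc, hb₁, tr_tr]
  · have h : n + T + S ≤ n + (T + S) := by omega
    have e : v.app (op (n + (T + S))) ≫ ARSys.tr Z (show n + T ≤ n + (T + S) by omega) =
        ARSys.tr Y h ≫ a (n + T) ≫ u.app (op (n + T)) ≫ v.app (op (n + T)) := by
      rw [reassoc_of% ha₁, tr_tr_assoc, tr_naturality]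
    have hb := hb₂ n
    rw [Category.assoc] at hb
    rw [reassoc_of% e, reassoc_of% hb, tr_naturality, reassoc_of% ha₁, tr_tr, tr_tr]

theorem isARIso_of_comp_right {u : X ⟶ Y} {v : Y ⟶ Z} (hv : ARSys.IsARIso v)
    (huv : ARSys.IsARIso (u ≫ v)) : ARSys.IsARIso u := by
  obtain ⟨S, a, ha₁, ha₂, ha₃⟩ := exists_inverse_of_isARIso v hv
  obtain ⟨T, b, hb₁, hb₂, hb₃⟩ := exists_inverse_of_isARIso (u ≫ v) huv
  simp only [NatTrans.comp_app] at hb₁ hb₂
  refine isARIso_of_inverse u (S + T)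
    (fun n => ARSys.tr Y (show n + S + T ≤ n + (S + T) by omega) ≫ v.app (op (n + S + T)) ≫
      b (n + S) ≫ ARSys.tr X (Nat.le_add_right n S)) (fun n => ?_) (fun n => ?_)
  · simp only [Category.assoc]
    rw [tr_naturality, ← ha₂ n, reassoc_of% hb₁ (n + S), ← tr_naturality_assoc, ha₂,
      tr_tr_assoc, tr_tr]
  · rw [← tr_naturality_assoc]
    have hb := hb₂ (n + S)
    rw [Category.assoc] at hb
    rw [reassoc_of% hb, tr_tr, tr_tr]

theorem isMLAR_of_isARIso {u : X ⟶ Y} (hu : ARSys.IsARIso u) :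
    ARSys.IsMLAR X ↔ ARSys.IsMLAR Y := by
  obtain ⟨R, w, hw₁, hw₂, hw₃⟩ := exists_inverse_of_isARIso u hu
  rw [isMLAR_iff, isMLAR_iff]
  constructor
  · rintro ⟨r, hr⟩
    refine ⟨r + R, fun n m h => ?_⟩
    have e : ARSys.tr Y (Nat.le_add_right n (r + R)) =
        (ARSys.tr Y (show n + r + R ≤ n + (r + R) by omega) ≫ w (n + r)) ≫
          ARSys.tr X (Nat.le_add_right n r) ≫ u.app (op n) := by
      rw [Category.assoc, tr_naturality, reassoc_of% hw₁ (n + r), tr_tr, tr_tr]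
    rw [e]
    refine (((hr n m h).comp (u.app (op n))).precomp _).trans ?_
    rw [tr_naturality]
    exact .of_eq _ rfl
  · rintro ⟨r, hr⟩
    refine ⟨R + r, fun n m h => ?_⟩
    have e : ARSys.tr X (Nat.le_add_right n (R + r)) =
        u.app (op (n + (R + r))) ≫
          ARSys.tr Y (show n + R ≤ n + (R + r) by omega) ≫ w n := by
      rw [← tr_naturality_assoc, hw₂, tr_tr]
    have hr' : ImLE (ARSys.tr Y (show n + R ≤ n + (R + r) by omega))
        (ARSys.tr Y (Nat.add_le_add_right h R)) := by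
      have := (hr (n + R) (m + R) (Nat.add_le_add_right h R)).precomp
        (ARSys.tr Y (show n + R + r ≤ n + (R + r) by omega))
      rwa [tr_tr] at this
    rw [e]
    refine ((hr'.comp (w n)).precomp _).trans ?_
    rw [hw₃ n m h]
    exact .of_eq _ rfl

theorem isARIso_shiftTo (X : ARSys.PS C) (r : ℕ) : ARSys.IsARIso (shiftTo X r) :=
  isARIso_of_inverse (shiftTo X r) r (fun n => 𝟙 (X.obj (op (n + r))))
    (fun n => Category.id_comp _) (fun n => Category.comp_id _)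

theorem isIso_limMap [HasLimitsOfShape ℕᵒᵖ C] {u : X ⟶ Y} (hu : ARSys.IsARIso u) :
    IsIso (limMap u) := by
  obtain ⟨R, w, hw₁, hw₂, hw₃⟩ := exists_inverse_of_isARIso u hu
  let c : Cone X := Cone.mk (limit Y)
    { app := fun n => limit.π Y (op (n.unop + R)) ≫ w n.unop
      naturality := fun i j f => by
        obtain ⟨i⟩ := i
        obtain ⟨j⟩ := j
        have e := limit.w Y (homOfLE (Nat.add_le_add_right (leOfHom f.unop) R)).op
        refine (Category.id_comp _).trans ?_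
        rw [Category.assoc]
        rw [show X.map f = ARSys.tr X (leOfHom f.unop) from rfl, ← hw₃ j i (leOfHom f.unop),
          ← e, Category.assoc] }
  refine ⟨limit.lift X c, limit.hom_ext fun ⟨n⟩ => ?_, limit.hom_ext fun ⟨n⟩ => ?_⟩
  · simp only [Category.assoc, limit.lift_π, Category.id_comp, c]
    rw [limMap_π_assoc, hw₂]
    exact limit.w X (homOfLE (Nat.le_add_right n R)).op
  · simp only [Category.assoc, limMap_π, limit.lift_π_assoc, Category.id_comp, c]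
    rw [hw₁]
    exact limit.w Y (homOfLE (Nat.le_add_right n R)).op

end Comp

section Adic

variable {A : Type w} [CommRing A] [Linear A C] {J : Ideal A}

theorem isMLAR_left {S : ShortComplex (ARSys.PS C)} (hS : S.ShortExact)
    (k₂ : ARSys.TermKilled J S.X₂) (h₂ : ARSys.IsMLAR S.X₂) (h₃ : ARSys.IsARAdic J S.X₃) :
    ARSys.IsMLAR S.X₁ := by
  obtain ⟨-, Y, u, hY, hu⟩ := h₃
  obtain ⟨R, w, hw₁, hw₂, hw₃⟩ := exists_inverse_of_isARIso u hu
  obtain ⟨r, hr⟩ := (isMLAR_iff _).mp h₂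
  refine (isMLAR_iff _).mpr ⟨R + r, fun k m h => ?_⟩
  haveI := mono_app_f hS k
  refine .of_comp_mono (S.f.app (op k)) ?_
  rw [imLE_iff_cokernel]
  let c := cokernel.π (ARSys.tr S.X₁ h ≫ S.f.app (op k))
  change (ARSys.tr S.X₁ (Nat.le_add_right k (R + r)) ≫ S.f.app (op k)) ≫ c = 0
  have h0 : S.f.app (op m) ≫ ARSys.tr S.X₂ h ≫ c = 0 := by
    rw [← Category.assoc, ← tr_naturality, cokernel.condition]
  obtain ⟨φ, hφ⟩ := exists_desc_g hS _ h0
  haveI := epi_app_g hS m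
  have hk : ARSys.HomKilledBy (J ^ (k + 1)) φ :=
    homKilledBy_of_epi (S.g.app (op m))
      (hφ ▸ homKilledBy_comp (homKilledBy_of_target (k₂ k) _) c)
  obtain ⟨ψ, hψ⟩ := isQuot_desc (hY.2 k m h) (homKilledBy_comp' (u.app (op m)) hk)
  have e : ARSys.tr S.X₃ (Nat.le_add_right m R) ≫ φ =
      ARSys.tr S.X₃ (Nat.add_le_add_right h R) ≫ w k ≫ ψ := by
    rw [reassoc_of% hw₃ k m h, hψ, reassoc_of% hw₁ m]
  let δ := ARSys.tr S.X₂ (Nat.le_add_right k R) ≫ c - S.g.app (op (k + R)) ≫ w k ≫ ψ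
  have hδ : ARSys.tr S.X₂ (Nat.add_le_add_right h R) ≫ δ = 0 := by
    simp only [δ, Preadditive.comp_sub, tr_tr_assoc]
    rw [tr_naturality_assoc, ← e, ← tr_naturality_assoc, hφ, tr_tr_assoc, sub_self]
  have hδ' := (hr (k + R) (m + R) (Nat.add_le_add_right h R)).comp_eq_zero δ hδ
  have hle : k + R + r ≤ k + (R + r) := by omega
  have := congrArg (fun f => S.f.app (op (k + (R + r))) ≫ ARSys.tr S.X₂ hle ≫ f) hδ'
  simp only [δ, comp_zero, tr_tr_assoc, Preadditive.comp_sub] at this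
  rw [← tr_naturality_assoc, ← tr_naturality_assoc, ← Category.assoc _ (S.g.app _), app_f_g,
    zero_comp, comp_zero, sub_zero] at this
  rw [Category.assoc]
  exact this

theorem isARAdic_right {S : ShortComplex (ARSys.PS C)} (hS : S.ShortExact)
    (k₃ : ARSys.TermKilled J S.X₃) (h₁ : ARSys.IsMLAR S.X₁) (h₂ : ARSys.IsARAdic J S.X₂) :
    ARSys.IsARAdic J S.X₃ := by
  obtain ⟨-, Y, u, hY, hu⟩ := h₂
  obtain ⟨R, w, hw₁, hw₂, hw₃⟩ := exists_inverse_of_isARIso u hu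
  let v := u ≫ S.g
  have hv : ∀ n, (kernel.ι v).app (op n) ≫ u.app (op n) ≫ S.g.app (op n) = 0 :=
    fun n => kernel_ι_app_comp v n
  haveI := hS.mono_f
  let k : kernel v ⟶ S.X₁ :=
    hS.exact.lift (kernel.ι v ≫ u) (by rw [Category.assoc, kernel.condition])
  have hkf : ∀ n, k.app (op n) ≫ S.f.app (op n) = (kernel.ι v).app (op n) ≫ u.app (op n) :=
    fun n => NatTrans.congr_app (hS.exact.lift_f _ _) (op n)
  choose w' hw' using fun n => exists_lift_kernel_ι v (S.f.app (op (n + R)) ≫ w n)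
    (show (S.f.app (op (n + R)) ≫ w n) ≫ u.app (op n) ≫ S.g.app (op n) = 0 by
      rw [Category.assoc, reassoc_of% hw₁ n, tr_naturality, ← Category.assoc, app_f_g, zero_comp])
  have hk : ARSys.IsARIso k := by
    refine isARIso_of_inverse k R w' (fun n => ?_) (fun n => ?_)
    · haveI := mono_app_f hS n
      rw [← cancel_mono (S.f.app (op n)), Category.assoc, hkf, reassoc_of% hw',
        hw₁, tr_naturality]
    · haveI := mono_kernel_ι_app v n
      rw [← cancel_mono ((kernel.ι v).app (op n)), Category.assoc, hw', reassoc_of% hkf,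
        hw₂, tr_naturality]
  obtain ⟨K', ι', hK', hι'm, hι'⟩ := exists_strict_sub ((isMLAR_of_isARIso hk).mpr h₁)
  let f := ι' ≫ kernel.ι v
  haveI : Mono f := mono_comp _ _
  let T := ShortComplex.mk f (cokernel.π f) (cokernel.condition f)
  have hT : T.ShortExact :=
    { exact := ShortComplex.exact_of_g_is_cokernel _ (cokernelIsCokernel f) }
  let u₃ : cokernel f ⟶ S.X₃ :=
    cokernel.desc f v (by simp only [f, Category.assoc, kernel.condition, comp_zero])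
  have hu₃ : ∀ n, (cokernel.π f).app (op n) ≫ u₃.app (op n) =
      u.app (op n) ≫ S.g.app (op n) :=
    fun n => NatTrans.congr_app (cokernel.π_desc f v _) (op n)
  refine ⟨k₃, cokernel f, u₃, isAdic_right hT hK' hY, ?_, ?_⟩
  · obtain ⟨r, hr⟩ := (isARNull_cokernel_iff ι').mp hι'.2
    refine (isARNull_kernel_iff u₃).mpr ⟨r, fun n W a ha => ?_⟩
    haveI := epi_cokernel_π_app f (n + r)
    obtain ⟨W', π, _, y, hy⟩ := surjective_up_to_refinements_of_epi
      ((cokernel.π f).app (op (n + r))) a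
    obtain ⟨y', hy'⟩ := exists_lift_kernel_ι v y
      (show y ≫ u.app (op (n + r)) ≫ S.g.app (op (n + r)) = 0 by
        rw [← hu₃, ← reassoc_of% hy, ha, comp_zero])
    rw [← cancel_epi π, reassoc_of% hy, comp_zero, ← tr_naturality, ← hy', Category.assoc,
      ← tr_naturality_assoc]
    rw [(hr n).comp_eq_zero ((kernel.ι v).app (op n) ≫ (cokernel.π f).app (op n)) ?_, comp_zero]
    rw [← Category.assoc]
    exact app_comp_cokernel_π f n
  · refine (isARNull_cokernel_iff u₃).mpr ⟨R, fun n => ?_⟩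
    haveI := epi_app_g hS (n + R)
    refine .of_epi (S.g.app (op (n + R))) ?_
    rw [← tr_naturality, ← hw₁ n, Category.assoc, ← hu₃]
    exact .of_eq (w n ≫ (cokernel.π f).app (op n)) (Category.assoc _ _ _).symm

theorem exists_isARIso_of_shift {X Y : ARSys.PS C} (kX : ARSys.TermKilled J X)
    (hY : ARSys.IsAdic J Y) {r : ℕ} (v : (ARSys.shift C r).obj Y ⟶ X) (hv : ARSys.IsARIso v) :
    ∃ u : Y ⟶ X, ARSys.IsARIso u := by
  obtain ⟨u, hu, -⟩ := existsUnique_desc hY kX (fun n => v.app (op n))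
    (fun n m h => v.naturality (homOfLE h).op)
  refine ⟨u, isARIso_of_comp_left (isARIso_shiftTo Y r) ?_⟩
  have e : shiftTo Y r ≫ u = v := ps_hom_ext fun n => (hu n).symm
  rwa [e]

theorem isQuot_inverse_of_strict {X Y : ARSys.PS C} (hX : ARSys.IsStrict X)
    (hY : ARSys.IsAdic J Y) {u : Y ⟶ X} {R : ℕ} {w : ∀ n : ℕ, X.obj (op (n + R)) ⟶ Y.obj (op n)}
    (hw₁ : ∀ n, w n ≫ u.app (op n) = ARSys.tr X (Nat.le_add_right n R))
    (hw₂ : ∀ n, u.app (op (n + R)) ≫ w n = ARSys.tr Y (Nat.le_add_right n R)) (n : ℕ) :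
    ARSys.IsQuot (J ^ (n + 1)) (w n) := by
  have hu : ∀ k, Epi (u.app (op k)) := fun k =>
    haveI : Epi (w k ≫ u.app (op k)) := by rw [hw₁]; exact hX _ _ _
    epi_of_epi (w k) _
  haveI : Epi (u.app (op (n + R)) ≫ w n) := by
    rw [hw₂]; exact isQuot_epi (hY.2 _ _ _)
  haveI : Epi (w n) := epi_of_epi (u.app (op (n + R))) _
  refine isQuot_mk (hY.1 n) fun Z φ hφ => ?_
  obtain ⟨ψ, hψ⟩ := isQuot_desc (hY.2 n (n + R) (Nat.le_add_right n R))
    (homKilledBy_comp' (u.app (op (n + R))) hφ)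
  haveI := hu (n + R)
  exact ⟨ψ, by rw [← cancel_epi (u.app (op (n + R))), reassoc_of% hw₂, hψ]⟩

theorem exists_quot_shift_of_isARAdic {X : ARSys.PS C} (hX : ARSys.IsStrict X)
    (h : ARSys.IsARAdic J X) :
    ∃ (r : ℕ) (Y : ARSys.PS C) (q : (ARSys.shift C r).obj X ⟶ Y),
      (∀ n : ℕ, ARSys.IsQuot (J ^ (n + 1)) (q.app (op n))) ∧ ARSys.IsAdic J Y := by
  obtain ⟨-, Y, u, hY, hu⟩ := h
  obtain ⟨R, w, hw₁, hw₂, hw₃⟩ := exists_inverse_of_isARIso u hu
  exact ⟨R, Y, homMk w fun n m h => hw₃ n m h, fun n => isQuot_inverse_of_strict hX hY hw₁ hw₂ n,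
    hY⟩

theorem isARAdic_of_quot_shift {X : ARSys.PS C} (kX : ARSys.TermKilled J X) {r : ℕ}
    {Y : ARSys.PS C} (q : ∀ n : ℕ, X.obj (op (n + r)) ⟶ Y.obj (op n))
    (hq₁ : ∀ (n m : ℕ) (h : n ≤ m),
      ARSys.tr X (Nat.add_le_add_right h r) ≫ q n = q m ≫ ARSys.tr Y h)
    (hq : ∀ n : ℕ, ARSys.IsQuot (J ^ (n + 1)) (q n)) (hY : ARSys.IsAdic J Y) :
    ARSys.IsARAdic J X := by
  choose g hg using fun n => isQuot_desc (hq n)
    (homKilledBy_of_target (kX n) (ARSys.tr X (Nat.le_add_right n r)))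
  have hep := fun n => isQuot_epi (hq n)
  refine ⟨kX, Y, homMk g fun n m h => ?_, hY, isARIso_of_inverse _ r q (fun n => hg n)
    fun n => ?_⟩
  · rw [← cancel_epi (q m), reassoc_of% hg m, ← reassoc_of% hq₁ n m h, hg n, tr_tr, tr_tr]
  · haveI := hep (n + r)
    rw [← cancel_epi (q (n + r)), homMk_app, reassoc_of% hg (n + r),
      ← hq₁ n (n + r) (Nat.le_add_right n r)]

theorem isARAdic_fker {X : ARSys.PS C} (hX : ARSys.IsStrict X) (h : ARSys.IsARAdic J X) :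
    ∃ r : ℕ, 0 < r ∧ ∀ n : ℕ, ARSys.SubLEIdeal (J ^ (n - r)) (ARSys.Fker X n) := by
  obtain ⟨-, Y, u, hY, hu⟩ := h
  obtain ⟨R, w, hw₁, hw₂, hw₃⟩ := exists_inverse_of_isARIso u hu
  refine ⟨2 * R + 1, by omega, fun n Z φ hφ => ?_⟩
  by_cases hn : n ≤ 2 * R + 1
  · rw [Nat.sub_eq_zero_of_le hn, pow_zero, Ideal.one_eq_top] at hφ
    rw [eq_zero_of_homKilledBy_top hφ, comp_zero]
  obtain ⟨d, rfl⟩ : ∃ d, n = d + 2 * R + 2 := ⟨n - (2 * R + 2), by omega⟩
  rw [show d + 2 * R + 2 - (2 * R + 1) = d + 1 by omega] at hφ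
  let l := d + R + 2
  obtain ⟨φ₀, hφ₀⟩ : ∃ φ₀ : X.obj (op (l + R)) ⟶ Z,
      ARSys.tr X (show d + 2 * R + 2 ≥ l + R by omega) ≫ φ₀ = φ :=
    ⟨ARSys.tr X (show d + 2 * R + 2 ≤ l + R by omega) ≫ φ, by simp⟩
  haveI := hX (l + R) (d + 2 * R + 2) (by omega)
  have hk₀ : ARSys.HomKilledBy (J ^ (d + 1)) φ₀ :=
    homKilledBy_of_epi (ARSys.tr X _) (hφ₀ ▸ hφ)
  obtain ⟨ψ, hψ⟩ := isQuot_desc (isQuot_inverse_of_strict hX hY hw₁ hw₂ l)
    (homKilledBy_mono (pow_succ_le (show d ≤ l by omega)) hk₀)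
  haveI := isQuot_epi (isQuot_inverse_of_strict hX hY hw₁ hw₂ l)
  obtain ⟨ψ', hψ'⟩ := isQuot_desc (hY.2 d l (by omega)) (homKilledBy_of_epi (w l) (hψ ▸ hk₀))
  have e : φ = ARSys.tr X (show d + R ≤ d + 2 * R + 2 by omega) ≫ w d ≫ ψ' := by
    rw [← hφ₀, ← hψ, ← hψ', ← reassoc_of% hw₃ d l (by omega), tr_tr_assoc]
  have hker : (ARSys.Fker X (d + 2 * R + 2)).arrow ≫
      ARSys.tr X (Nat.le_succ (d + 2 * R + 1)) = 0 :=
    kernelSubobject_arrow_comp _
  rw [e, ← tr_tr_assoc X (Nat.le_succ (d + 2 * R + 1)) (show d + R ≤ d + 2 * R + 1 by omega),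
    reassoc_of% hker, zero_comp]

theorem tr_kills_of_fker {X : ARSys.PS C} (hX : ARSys.IsStrict X) {r : ℕ}
    (h : ∀ n : ℕ, ARSys.SubLEIdeal (J ^ (n - r)) (ARSys.Fker X n)) {n : ℕ} :
    ∀ {m : ℕ} (hm : n ≤ m) {Z : C} {φ : X.obj (op m) ⟶ Z},
      ARSys.HomKilledBy (J ^ (n + 1 - r)) φ →
        ∃ ψ : X.obj (op n) ⟶ Z, ARSys.tr X hm ≫ ψ = φ := by
  intro m hm
  induction m, hm using Nat.le_induction with
  | base => exact fun {Z φ} _ => ⟨φ, by simp⟩
  | succ m hm ih =>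
    intro Z φ hφ
    haveI := hX m (m + 1) (Nat.le_succ m)
    have h0 : (kernelSubobject (ARSys.tr X (Nat.le_succ m))).arrow ≫ φ = 0 :=
      h (m + 1) Z φ (homKilledBy_mono (Ideal.pow_le_pow_right (by omega)) hφ)
    have h1 : kernel.ι (ARSys.tr X (Nat.le_succ m)) ≫ φ = 0 := by
      rw [← kernelSubobject_arrow', Category.assoc, h0, comp_zero]
    obtain ⟨ψ, hψ⟩ := ih (φ := Abelian.epiDesc _ φ h1)
      (homKilledBy_of_epi (ARSys.tr X (Nat.le_succ m))
        ((Abelian.comp_epiDesc _ φ h1).symm ▸ hφ))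
    exact ⟨ψ, by rw [← tr_tr_assoc X (Nat.le_succ m) hm, hψ, Abelian.comp_epiDesc]⟩

theorem isARAdic_of_fker (hJ : J.FG ∨ HasCoproducts.{w} C) {X : ARSys.PS C}
    (hX : ARSys.IsStrict X) (kX : ARSys.TermKilled J X) {r : ℕ}
    (h : ∀ n : ℕ, ARSys.SubLEIdeal (J ^ (n - r)) (ARSys.Fker X n)) : ARSys.IsARAdic J X := by
  choose Q q hq using fun n : ℕ =>
    exists_isQuot (fg_pow_or hJ (n + 1)) (X.obj (op (n + r)))
  choose t ht using fun n : ℕ => isQuot_desc (hq (n + 1))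
    (φ := ARSys.tr X (Nat.add_le_add_right (Nat.le_succ n) r) ≫ q n)
    (homKilledBy_comp' _ (homKilledBy_mono (pow_succ_le (Nat.le_succ n)) (isQuot_killed (hq n))))
  let Y : ARSys.PS C := Functor.ofOpSequence t
  obtain ⟨q, hq, ht⟩ : ∃ q' : ∀ n, X.obj (op (n + r)) ⟶ Y.obj (op n),
      (∀ n, ARSys.IsQuot (J ^ (n + 1)) (q' n)) ∧ ∀ n, q' (n + 1) ≫ ARSys.tr Y (Nat.le_succ n) =
        ARSys.tr X (Nat.add_le_add_right (Nat.le_succ n) r) ≫ q' n := by
    refine ⟨q, hq, fun n => ?_⟩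
    rw [show ARSys.tr Y (Nat.le_succ n) = t n from Functor.ofOpSequence_map_homOfLE_succ t n]
    exact ht n
  have hq₁ : ∀ (n m : ℕ) (h : n ≤ m),
      ARSys.tr X (Nat.add_le_add_right h r) ≫ q n = q m ≫ ARSys.tr Y h := by
    intro n m h
    induction m, h using Nat.le_induction with
    | base => rw [tr_self, tr_self, Category.id_comp]; exact (Category.comp_id (q n)).symm
    | succ m h ih =>
      rw [← tr_tr Y (Nat.le_succ m) h, ← Category.assoc, ht m, Category.assoc, ← ih,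
        tr_tr_assoc]
  refine isARAdic_of_quot_shift kX (Y := Y) q hq₁ hq ⟨fun n => (hq n).1, fun n m hnm => ?_⟩
  haveI := hX (n + r) (m + r) (Nat.add_le_add_right hnm r)
  haveI := isQuot_epi (hq n)
  haveI : Epi (q m ≫ ARSys.tr Y hnm) := by rw [← hq₁]; exact epi_comp _ _
  haveI : Epi (ARSys.tr Y hnm) := epi_of_epi (q m) _
  refine isQuot_mk (hq n).1 fun Z φ hφ => ?_
  have hk := homKilledBy_comp' (q m) hφ
  obtain ⟨φ', hφ'⟩ := tr_kills_of_fker hX h (Nat.add_le_add_right hnm r)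
    (φ := q m ≫ φ) (by rwa [show n + r + 1 - r = n + 1 by omega])
  obtain ⟨ψ, hψ⟩ := isQuot_desc (hq n)
    (homKilledBy_of_epi (ARSys.tr X (Nat.add_le_add_right hnm r)) (hφ' ▸ hk))
  haveI := isQuot_epi (hq m)
  exact ⟨ψ, by rw [← cancel_epi (q m), ← reassoc_of% hq₁, hψ, hφ']⟩

end Adic

end Groth.Agent.H3CAlg.ARS
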