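import Groth.Agent.H3CAlg.ARS.Extension
import Groth.Agent.S3185
import Mathlib.Order.WellQuasiOrder
import Mathlib.Algebra.Order.Group.PiLex
import Mathlib.Algebra.Order.Antidiag.Pi
import Mathlib.RingTheory.Ideal.Operations

/-!
# The strict graded object of a projective system: Noetherianity and finite type
-/

universe w v u

open CategoryTheory CategoryTheory.Limits Opposite

namespace Groth.Agent.H3CAlg.ARS

variable {C : Type u} [Category.{v} C] [Abelian C]

theorem fsub_factors_iff {X : ARSys.PS C} {k n : ℕ} (h : k ≤ n) {W : C}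
    {x : W ⟶ X.obj (op n)} :
    (ARSys.Fsub X (k + 1) n).Factors x ↔ x ≫ ARSys.tr X h = 0 := by
  simp only [ARSys.Fsub, dif_pos h]
  exact kernelSubobject_factors_iff _ _

theorem le_of_app {X : ARSys.PS C} {Z Z' : Subobject X}
    (h : ∀ n : ℕ, ImLE (Z'.arrow.app (op n)) (Z.arrow.app (op n))) : Z' ≤ Z := by
  have h0 : Z.Factors Z'.arrow := mem_iff_comp_eq_zero.mpr <| ps_hom_ext fun n => by
    rw [NatTrans.comp_app, (comp_cokernel_π_app_eq_zero_iff _ _).mpr (h n)]
    rfl
  exact Subobject.le_of_comm (Z.factorThru _ h0) (Subobject.factorThru_arrow _ _ h0)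

variable {A : Type w} [CommRing A] [Linear A C] {J : Ideal A}

theorem termKilled_of_isAdapted {X : ARSys.PS C} (h : ARSys.IsAdapted J X) :
    ARSys.TermKilled J X := by
  intro n a ha
  have e := h n (n + 1) le_rfl a ha
  rw [Nat.sub_self] at e
  have e' : (⊤ : Subobject (X.obj (op n))).arrow ≫ (a • 𝟙 (X.obj (op n))) = 0 := e
  rwa [← comp_zero (f := (⊤ : Subobject (X.obj (op n))).arrow), cancel_epi] at e'

theorem isAdapted_of_isAdic {X : ARSys.PS C} (hX : ARSys.IsAdic J X) :
    ARSys.IsAdapted J X := by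
  intro n p hp a ha
  rcases hk : n + 1 - p with _ | k
  · obtain rfl : p = n + 1 := by omega
    rw [hX.1 n a ha, comp_zero]
  · refine isQuot_kills (hX.2 k n (by omega)) (fun b hb => ?_) _
      ((fsub_factors_iff (by omega)).mp mem_arrow)
    rw [smul_smul]
    refine hX.1 n _ ?_
    rw [show n + 1 = (k + 1) + p by omega, pow_add]
    exact Ideal.mul_mem_mul hb ha

theorem isAdapted_of_mono {X K : ARSys.PS C} (ι : K ⟶ X) (hι : ∀ n, Mono (ι.app (op n)))
    (hX : ARSys.IsAdapted J X) : ARSys.IsAdapted J K := by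
  intro n p hp a ha
  haveI := hι n
  rw [← cancel_mono (ι.app (op n)), zero_comp, Category.assoc, Linear.smul_comp, Category.id_comp,
    Linear.comp_smul]
  have hf : (ARSys.Fsub X (n + 1 - p) n).Factors
      ((ARSys.Fsub K (n + 1 - p) n).arrow ≫ ι.app (op n)) := by
    rcases hk : n + 1 - p with _ | k
    · exact Subobject.top_factors _
    · refine (fsub_factors_iff (by omega)).mpr ?_
      rw [Category.assoc, ← tr_naturality, ← Category.assoc,
        (fsub_factors_iff (by omega)).mp mem_arrow, zero_comp]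
  have e := hX n p hp a ha
  rw [Linear.comp_smul, Category.comp_id] at e
  rw [← Subobject.factorThru_arrow _ _ hf, ← Linear.comp_smul, e, comp_zero]

/-- In an adapted system, `J^p` kills the elements that vanish `p` steps below. -/
theorem smul_eq_zero_of_isAdapted {X : ARSys.PS C} (hX : ARSys.IsAdapted J X) {p q : ℕ} {a : A}
    (ha : a ∈ J ^ p) {W : C} (z : W ⟶ X.obj (op (p + q)))
    (hz : z ≫ ARSys.tr X (Nat.le_add_left q p) = 0) : a • z = 0 := by
  have e := hX (p + q) p (by omega) a ha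
  rw [show p + q + 1 - p = q + 1 by omega, Linear.comp_smul, Category.comp_id] at e
  rw [← Subobject.factorThru_arrow _ _ ((fsub_factors_iff (Nat.le_add_left q p)).mpr hz),
    ← Linear.comp_smul, e, comp_zero]

theorem smul_mem_fsub {X : ARSys.PS C} (hX : ARSys.IsAdapted J X) {p q : ℕ} {a : A}
    (ha : a ∈ J ^ p) {W : C} (z : W ⟶ X.obj (op (p + q)))
    (hz : (ARSys.Fsub X q q).Factors (z ≫ ARSys.tr X (Nat.le_add_left q p))) :
    (ARSys.Fsub X (p + q) (p + q)).Factors (a • z) := by
  have hf : (ARSys.Fsub X q (p + q)).Factors z := by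
    rcases q with _ | k
    · exact Subobject.top_factors _
    · refine (fsub_factors_iff (by omega)).mpr ?_
      have := (fsub_factors_iff (Nat.le_succ k)).mp hz
      rwa [Category.assoc, tr_tr] at this
  refine mem_of_le ((Groth.Agent.S3185.result J X).mp hX (p + q) p q a ha) ?_
  have : a • z = (ARSys.Fsub X q (p + q)).factorThru z hf ≫
      (ARSys.Fsub X q (p + q)).arrow ≫ (a • 𝟙 _) := by
    rw [Subobject.factorThru_arrow_assoc, Linear.comp_smul, Category.comp_id]
  rw [this]
  exact mem_image_self _ _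

theorem isGrSub_mk {X : ARSys.PS C} {M : (q : ℕ) → Subobject (X.obj (op q))}
    (h₁ : ∀ q, M q ≤ ARSys.Fsub X q q)
    (h₂ : ∀ (p q : ℕ) (a : A), a ∈ J ^ p → ∀ (W : C) (z : W ⟶ X.obj (op (p + q))),
      (M q).Factors (z ≫ ARSys.tr X (Nat.le_add_left q p)) → (M (p + q)).Factors (a • z)) :
    ARSys.IsGrSub J X M := by
  refine ⟨h₁, fun p q a ha => le_of_mem fun W x hx => ?_⟩
  obtain ⟨W', π, _, y, hy⟩ := mem_image_iff.mp hx
  refine mem_of_epi π ?_
  rw [hy, Linear.comp_smul, Category.comp_id, Linear.comp_smul]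
  exact h₂ p q a ha W' _ (mem_pullback_iff.mp (mem_precomp _ mem_arrow))

theorem isGrSub_apply {X : ARSys.PS C} {M : (q : ℕ) → Subobject (X.obj (op q))}
    (hM : ARSys.IsGrSub J X M) {p q : ℕ} {a : A} (ha : a ∈ J ^ p) {W : C}
    (z : W ⟶ X.obj (op (p + q))) (hz : (M q).Factors (z ≫ ARSys.tr X (Nat.le_add_left q p))) :
    (M (p + q)).Factors (a • z) := by
  refine mem_of_le (hM.2 p q a ha) ?_
  have hz' := mem_pullback_iff.mpr hz
  have : a • z = ((Subobject.pullback (ARSys.tr X (Nat.le_add_left q p))).obj (M q)).factorThru z hz'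
      ≫ ((Subobject.pullback (ARSys.tr X (Nat.le_add_left q p))).obj (M q)).arrow ≫ (a • 𝟙 _) := by
    rw [Subobject.factorThru_arrow_assoc, Linear.comp_smul, Category.comp_id]
  rw [this]
  exact mem_image_self _ _

section Monomials

variable {k : ℕ} (g : Fin k → A)

/-- The monomial with exponent vector `α` in the generators `g`. -/
def gmono (α : Lex (Fin k → ℕ)) : A := ∏ i, g i ^ ofLex α i

/-- The degree of an exponent vector. -/
def deg (α : Lex (Fin k → ℕ)) : ℕ := ∑ i, ofLex α i

variable (k) in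
/-- All exponent vectors of a given degree. -/
def degSet (q : ℕ) : Finset (Lex (Fin k → ℕ)) :=
  ((Finset.univ : Finset (Fin k)).piAntidiag q).map toLex.toEmbedding

theorem mem_degSet {q : ℕ} {α : Lex (Fin k → ℕ)} : α ∈ degSet k q ↔ deg α = q := by
  simp only [degSet, Finset.mem_map, Finset.mem_piAntidiag]
  exact ⟨fun ⟨β, hβ, e⟩ => by rw [← e]; exact hβ.1,
    fun h => ⟨ofLex α, ⟨h, fun i _ => Finset.mem_univ i⟩, rfl⟩⟩

theorem deg_add (α β : Lex (Fin k → ℕ)) : deg (α + β) = deg α + deg β :=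
  Finset.sum_add_distrib

theorem gmono_add (α β : Lex (Fin k → ℕ)) : gmono g (α + β) = gmono g α * gmono g β := by
  simp only [gmono, ← Finset.prod_mul_distrib, ← pow_add]
  rfl

theorem deg_zero : deg (0 : Lex (Fin k → ℕ)) = 0 :=
  Finset.sum_const_zero

theorem gmono_zero : gmono g 0 = 1 :=
  Finset.prod_eq_one fun _ _ => pow_zero _

theorem deg_single (i : Fin k) : deg (toLex (Pi.single i 1)) = 1 := by
  simp [deg]

theorem gmono_single (i : Fin k) : gmono g (toLex (Pi.single i 1)) = g i := by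
  rw [gmono, Finset.prod_eq_single i (fun j _ hj => by simp [hj]) (fun h => absurd (Finset.mem_univ i) h)]
  simp

theorem pow_eq_span_gmono (hg : Ideal.span (Set.range g) = J) (q : ℕ) :
    J ^ q = Ideal.span (gmono g '' ↑(degSet k q)) := by
  induction q with
  | zero =>
    refine le_antisymm ?_ (by rw [pow_zero, Ideal.one_eq_top]; exact le_top)
    rw [pow_zero, Ideal.one_eq_top, top_le_iff, Ideal.eq_top_iff_one]
    exact Ideal.subset_span ⟨0, mem_degSet.mpr deg_zero, gmono_zero g⟩
  | succ q ih =>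
    have hle : Ideal.span (gmono g '' ↑(degSet k (q + 1))) ≤ J ^ (q + 1) := by
      rw [Ideal.span_le]
      rintro _ ⟨α, hα, rfl⟩
      have hα' := mem_degSet.mp (Finset.mem_coe.mp hα)
      have : gmono g α ∈ ∏ i, J ^ ofLex α i := Ideal.prod_mem_prod fun i _ =>
        Ideal.pow_mem_pow (hg ▸ Ideal.subset_span ⟨i, rfl⟩) _
      rwa [Finset.prod_pow_eq_pow_sum, show ∑ i, ofLex α i = q + 1 from hα'] at this
    refine le_antisymm ?_ hle
    rw [pow_succ, ih, ← hg, Ideal.span_mul_span', Ideal.span_le]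
    rintro _ ⟨_, ⟨α, hα, rfl⟩, _, ⟨i, rfl⟩, rfl⟩
    refine Ideal.subset_span ⟨α + toLex (Pi.single i 1), mem_degSet.mpr ?_, ?_⟩
    · rw [deg_add, deg_single, mem_degSet.mp (Finset.mem_coe.mp hα)]
    · rw [gmono_add, gmono_single]

theorem gmono_mem (hg : Ideal.span (Set.range g) = J) {q : ℕ} {α : Lex (Fin k → ℕ)}
    (hα : deg α = q) : gmono g α ∈ J ^ q := by
  rw [pow_eq_span_gmono g hg]
  exact Ideal.subset_span ⟨α, mem_degSet.mpr hα, rfl⟩

variable {g} {X : ARSys.PS C} {μ : ∀ q : ℕ, Lex (Fin k → ℕ) → (X.obj (op 0) ⟶ X.obj (op q))}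

/-- The span of a finite set of monomials applied to `X₀`, in degree `q`. -/
noncomputable def monSpan (μ : ∀ q : ℕ, Lex (Fin k → ℕ) → (X.obj (op 0) ⟶ X.obj (op q))) (q : ℕ)
    (s : Finset (Lex (Fin k → ℕ))) : Subobject (X.obj (op q)) :=
  s.sup fun β => imageSubobject (μ q β)

theorem monSpan_lift (hμ : ∀ q α, deg α = q → ARSys.tr X (Nat.zero_le q) ≫ μ q α = gmono g α • 𝟙 _)
    (hX : ARSys.IsStrict X) {p q : ℕ} {γ : Lex (Fin k → ℕ)} (hγ : deg γ = p)
    (s : Finset (Lex (Fin k → ℕ))) (hs : ∀ β ∈ s, deg β = q) :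
    ∀ (W : C) (t : W ⟶ X.obj (op q)), (monSpan μ q s).Factors t →
      ∃ (W' : C) (π : W' ⟶ W) (_ : Epi π) (z : W' ⟶ X.obj (op (p + q))),
        z ≫ ARSys.tr X (Nat.le_add_left q p) = π ≫ t ∧
        (monSpan μ (p + q) (s.image (· + γ))).Factors (gmono g γ • z) := by
  classical
  induction s using Finset.induction with
  | empty =>
    intro W t ht
    refine ⟨W, 𝟙 W, inferInstance, 0, ?_, by rw [smul_zero]; exact mem_zero⟩
    rw [monSpan, Finset.sup_empty, Subobject.bot_factors_iff_zero] at ht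
    rw [ht, zero_comp, comp_zero]
  | insert β s hβ ih =>
    intro W t ht
    rw [monSpan, Finset.sup_insert, mem_sup_iff] at ht
    obtain ⟨W₁, π₁, _, t₁, t₂, h₁, h₂, e⟩ := ht
    obtain ⟨W₂, π₂, _, z₂, hz₂, hz₂'⟩ :=
      ih (fun b hb => hs b (Finset.mem_insert_of_mem hb)) W₁ t₂ h₂
    obtain ⟨W₃, π₃, _, x, hx⟩ := mem_image_iff.mp (mem_precomp π₂ h₁)
    haveI := hX 0 (p + q) (Nat.zero_le _)
    obtain ⟨W₄, π₄, _, x', hx'⟩ :=
      surjective_up_to_refinements_of_epi (ARSys.tr X (Nat.zero_le (p + q))) x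
    refine ⟨W₄, π₄ ≫ π₃ ≫ π₂ ≫ π₁, inferInstance, gmono g β • x' + π₄ ≫ π₃ ≫ z₂, ?_, ?_⟩
    · have hb : gmono g β • (x' ≫ ARSys.tr X (Nat.le_add_left q p)) = π₄ ≫ x ≫ μ q β := by
        have e' := (x' ≫ ARSys.tr X (Nat.le_add_left q p)) ≫= hμ q β (hs β (Finset.mem_insert_self _ _))
        rw [Linear.comp_smul, Category.comp_id, Category.assoc, tr_tr_assoc, ← reassoc_of% hx'] at e'
        exact e'.symm
      simp only [Preadditive.add_comp, Linear.smul_comp, hb, Category.assoc, hz₂, ← hx, e,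
        Preadditive.comp_add]
    · rw [smul_add, monSpan, Finset.image_insert, Finset.sup_insert]
      refine mem_add (Subobject.sup_factors_of_factors_left ?_)
        (Subobject.sup_factors_of_factors_right ?_)
      · have hd : deg (β + γ) = p + q := by
          rw [deg_add, hs β (Finset.mem_insert_self _ _), hγ, Nat.add_comm]
        have : gmono g γ • gmono g β • x' = (π₄ ≫ x) ≫ μ (p + q) (β + γ) := by
          rw [hx', Category.assoc, hμ _ _ hd, Linear.comp_smul, Category.comp_id, smul_smul,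
            gmono_add, mul_comm]
        rw [this]
        exact mem_image_self _ _
      · rw [← Linear.comp_smul, ← Linear.comp_smul]
        exact mem_precomp _ (mem_precomp _ hz₂')

end Monomials

/-- The strict graded object of an adic system with Noetherian degree zero is Noetherian. -/
theorem isGrSub_chain_stationary [IsNoetherianRing A] {X : ARSys.PS C} (hX : ARSys.IsAdic J X)
    [IsNoetherianObject (X.obj (op 0))] (M : ℕ → (q : ℕ) → Subobject (X.obj (op q)))
    (hM : ∀ i, ARSys.IsGrSub J X (M i)) (hmono : Monotone M) :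
    ∃ i₀ : ℕ, ∀ i : ℕ, i₀ ≤ i → M i = M i₀ := by
  classical
  obtain ⟨k, g, hg⟩ := Submodule.fg_iff_exists_fin_generating_family.mp (IsNoetherian.noetherian J)
  have hμ' : ∀ q, ∀ α : Lex (Fin k → ℕ), ∃ μ : X.obj (op 0) ⟶ X.obj (op q),
      deg α = q → ARSys.tr X (Nat.zero_le q) ≫ μ = gmono g α • 𝟙 _ := by
    intro q α
    by_cases h : deg α = q
    · obtain ⟨μ, hμ⟩ := exists_mul_hom hX (gmono_mem g hg h)
      exact ⟨μ, fun _ => hμ⟩
    · exact ⟨0, fun h' => absurd h' h⟩
  choose μ hμ using hμ'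
  have hstr := isStrict_of_isAdic hX
  -- generation by monomials
  have hgen : ∀ q, ARSys.Fsub X q q ≤ monSpan μ q (degSet k q) := by
    intro q
    refine le_of_mem fun W x hx => mem_iff_comp_eq_zero.mpr ?_
    let c := cokernel.π (monSpan μ q (degSet k q)).arrow
    have hc : ∀ α ∈ degSet k q, gmono g α • c = 0 := by
      intro α hα
      have h : (monSpan μ q (degSet k q)).Factors (μ q α) :=
        mem_of_le (Finset.le_sup (f := fun β => imageSubobject (μ q β)) hα)
          (mem_image_iff.mpr (ImLE.refl _))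
      have h' : μ q α ≫ c = 0 := mem_iff_comp_eq_zero.mp h
      rw [← Category.id_comp c, ← Linear.smul_comp, ← hμ q α (mem_degSet.mp hα), Category.assoc,
        h', comp_zero]
    have hk : ARSys.HomKilledBy (J ^ q) c := by
      intro a ha
      rw [pow_eq_span_gmono g hg] at ha
      refine Submodule.span_induction ?_ (zero_smul A c)
        (fun x y _ _ hx hy => by rw [add_smul, hx, hy, add_zero])
        (fun r x _ hx => by rw [smul_eq_mul, mul_smul, hx, smul_zero]) ha
      rintro _ ⟨α, hα, rfl⟩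
      exact hc α hα
    change x ≫ c = 0
    rcases q with _ | j
    · rw [pow_zero, Ideal.one_eq_top] at hk
      rw [eq_zero_of_homKilledBy_top hk, comp_zero]
    · exact isQuot_kills (hX.2 j (j + 1) (Nat.le_succ j)) hk x ((fsub_factors_iff _).mp hx)
  -- leading coefficient subobjects
  let low := fun (q : ℕ) (α : Lex (Fin k → ℕ)) => (degSet k q).filter (· < α)
  let L := fun (i : ℕ) (α : Lex (Fin k → ℕ)) =>
    (Subobject.pullback (μ (deg α) α)).obj (M i (deg α) ⊔ monSpan μ (deg α) (low (deg α) α))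
  have hL₁ : ∀ α, Monotone fun i => L i α := fun α i j h =>
    (Subobject.pullback _).monotone (sup_le_sup_right (hmono h _) _)
  have hL₂ : ∀ i α γ, L i α ≤ L i (α + γ) := by
    intro i α γ
    refine le_of_mem fun W x hx => ?_
    rw [mem_pullback_iff] at hx ⊢
    rw [deg_add, Nat.add_comm (deg α)]
    set p := deg γ with hp
    set q := deg α with hq
    obtain ⟨W₁, π₁, _, m, t, hm, ht, e⟩ := mem_sup_iff.mp hx
    obtain ⟨W₂, π₂, _, zt, hzt, hzt'⟩ := monSpan_lift hμ hstr hp.symm _
      (fun β hβ => mem_degSet.mp (Finset.mem_filter.mp hβ).1) W₁ t ht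
    haveI := hstr 0 (p + q) (Nat.zero_le _)
    obtain ⟨W₃, π₃, _, x', hx'⟩ := surjective_up_to_refinements_of_epi
      (ARSys.tr X (Nat.zero_le (p + q))) (π₂ ≫ π₁ ≫ x)
    refine mem_of_epi (π₃ ≫ π₂ ≫ π₁) ?_
    have e₁ : (π₃ ≫ π₂ ≫ π₁) ≫ x ≫ μ (p + q) (α + γ) =
        gmono g γ • (gmono g α • x') := by
      rw [Category.assoc, Category.assoc, reassoc_of% hx',
        hμ _ _ (by rw [deg_add, ← hp, ← hq, Nat.add_comm]), Linear.comp_smul, Category.comp_id,
        smul_smul, gmono_add, mul_comm]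
    have e₂ : (gmono g α • x' - π₃ ≫ zt) ≫ ARSys.tr X (Nat.le_add_left q p) = π₃ ≫ π₂ ≫ m := by
      have e' := (x' ≫ ARSys.tr X (Nat.le_add_left q p)) ≫= hμ q α hq.symm
      rw [Linear.comp_smul, Category.comp_id, Category.assoc, tr_tr_assoc, ← reassoc_of% hx', e,
        Preadditive.comp_add, Preadditive.comp_add] at e'
      rw [Preadditive.sub_comp, Linear.smul_comp, ← e', Category.assoc, hzt, add_sub_cancel_right]
    rw [e₁, show gmono g γ • gmono g α • x' = gmono g γ • (gmono g α • x' - π₃ ≫ zt) +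
      gmono g γ • (π₃ ≫ zt) by rw [← smul_add, sub_add_cancel]]
    refine mem_add (Subobject.sup_factors_of_factors_left
      (isGrSub_apply (hM i) (gmono_mem g hg hp.symm) _ ?_))
      (Subobject.sup_factors_of_factors_right ?_)
    · rw [e₂]
      exact mem_precomp _ (mem_precomp _ hm)
    · rw [← Linear.comp_smul]
      refine mem_precomp _ (mem_of_le (Finset.sup_mono ?_) hzt')
      intro δ hδ
      obtain ⟨β, hβ, rfl⟩ := Finset.mem_image.mp hδ
      obtain ⟨hβ₁, hβ₂⟩ := Finset.mem_filter.mp hβ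
      exact Finset.mem_filter.mpr ⟨mem_degSet.mpr (by rw [deg_add, mem_degSet.mp hβ₁, ← hp,
        Nat.add_comm]), add_lt_add_of_lt_of_le hβ₂ le_rfl⟩
  have key : ∀ i j, i ≤ j → (∀ α, L j α ≤ L i α) → M j = M i := by
    intro i j hij hL
    funext q
    refine le_antisymm ?_ (hmono hij q)
    suffices H : ∀ s : Finset (Lex (Fin k → ℕ)),
        (∀ β ∈ s, deg β = q ∧ ∀ β' ∈ degSet k q, β' < β → β' ∈ s) →
        ∀ (W : C) (y : W ⟶ X.obj (op q)), (M j q).Factors y → (monSpan μ q s).Factors y →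
          (M i q).Factors y by
      exact le_of_mem fun W y hy => H (degSet k q)
        (fun β hβ => ⟨mem_degSet.mp hβ, fun β' hβ' _ => hβ'⟩) W y hy
        (mem_of_le (hgen q) (mem_of_le ((hM j).1 q) hy))
    intro s
    induction s using Finset.induction_on_max with
    | empty =>
      intro _ W y _ hy
      rw [monSpan, Finset.sup_empty, Subobject.bot_factors_iff_zero] at hy
      rw [hy]
      exact mem_zero
    | insert α s hlt ih =>
      intro hs W y hy hy'
      have hs' : ∀ β ∈ s, deg β = q ∧ ∀ β' ∈ degSet k q, β' < β → β' ∈ s := fun β hβ => by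
        refine ⟨(hs β (Finset.mem_insert_of_mem hβ)).1, fun β' h₁ h₂ => ?_⟩
        refine ((Finset.mem_insert.mp ((hs β (Finset.mem_insert_of_mem hβ)).2 β' h₁ h₂))).resolve_left ?_
        rintro rfl
        exact lt_asymm h₂ (hlt β hβ)
      have hαq := (hs α (Finset.mem_insert_self _ _)).1
      subst hαq
      have hlow : s = low (deg α) α := by
        ext β
        refine ⟨fun hβ => Finset.mem_filter.mpr ⟨mem_degSet.mpr
          (hs β (Finset.mem_insert_of_mem hβ)).1, hlt β hβ⟩, fun hβ => ?_⟩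
        obtain ⟨h₁, h₂⟩ := Finset.mem_filter.mp hβ
        exact (Finset.mem_insert.mp ((hs α (Finset.mem_insert_self _ _)).2 β h₁ h₂)).resolve_left
          h₂.ne
      rw [monSpan, Finset.sup_insert] at hy'
      obtain ⟨W₁, π₁, _, t₁, t₂, h₁, h₂, e⟩ := mem_sup_iff.mp hy'
      obtain ⟨W₂, π₂, _, x, hx⟩ := mem_image_iff.mp h₁
      have hxL : (L j α).Factors x := mem_pullback_iff.mpr (by
        rw [← hx, show t₁ = π₁ ≫ y - t₂ by rw [e, add_sub_cancel_right]]
        exact mem_precomp _ (mem_sub (Subobject.sup_factors_of_factors_left (mem_precomp _ hy))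
          (Subobject.sup_factors_of_factors_right (hlow ▸ h₂))))
      obtain ⟨W₃, π₃, _, m, p', hm, hp', e'⟩ :=
        mem_sup_iff.mp (mem_pullback_iff.mp (mem_of_le (hL α) hxL))
      refine mem_of_epi π₁ (mem_of_epi π₂ (mem_of_epi π₃ ?_))
      have e'' : π₃ ≫ π₂ ≫ π₁ ≫ y = m + (p' + π₃ ≫ π₂ ≫ t₂) := by
        rw [e, Preadditive.comp_add, Preadditive.comp_add, hx, e', add_assoc]
      rw [e'']
      refine mem_add hm (ih hs' _ _ ?_ (mem_add (hlow ▸ hp') (mem_precomp _ (mem_precomp _ h₂))))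
      rw [show p' + π₃ ≫ π₂ ≫ t₂ = π₃ ≫ π₂ ≫ π₁ ≫ y - m by rw [e'', add_sub_cancel_left]]
      exact mem_sub (mem_precomp _ (mem_precomp _ (mem_precomp _ hy))) (mem_of_le (hmono hij _) hm)
  by_contra H
  push Not at H
  have hstep : ∀ i, ∃ j α, i ≤ j ∧ L i α < L j α := by
    intro i
    obtain ⟨j, hij, hne⟩ := H i
    by_contra H'
    push Not at H'
    exact hne (key i j hij fun α =>
      ((hL₁ α hij).lt_or_eq.resolve_left (H' j α hij)).ge)
  choose nxt al hnxt hlt using hstep
  let t : ℕ → ℕ := fun n => nxt^[n] 0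
  have ht : Monotone t := monotone_nat_of_le_succ fun n => by
    simp only [t, Function.iterate_succ_apply']
    exact hnxt _
  obtain ⟨e, he⟩ := WellQuasiOrdered.exists_monotone_subseq
    (wellQuasiOrdered_le (α := Fin k → ℕ)) (fun n => ofLex (al (t n)))
  refine not_strictMono_of_isNoetherianObject
    (fun n => L (t (e n)) (al (t (e n)))) (strictMono_nat_of_lt_succ fun n => ?_)
  refine lt_of_lt_of_le (hlt (t (e n))) ?_
  have h₁ : nxt (t (e n)) ≤ t (e (n + 1)) := by
    have : t (e n + 1) ≤ t (e (n + 1)) := ht (e.strictMono (Nat.lt_succ_self n))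
    simpa only [t, Function.iterate_succ_apply'] using this
  have h₂ : al (t (e (n + 1))) =
      al (t (e n)) + toLex (ofLex (al (t (e (n + 1)))) - ofLex (al (t (e n)))) := by
    refine ofLex.injective (funext fun i => ?_)
    exact (Nat.add_sub_cancel' (he n (n + 1) (Nat.le_succ n) i)).symm
  refine (hL₁ _ h₁).trans ?_
  conv_rhs => rw [h₂]
  exact hL₂ _ _ _

/-- A strict, adapted system whose strict graded object is of finite type is adic up to
translation. -/
theorem isARAdic_of_grsFiniteType (hJ : J.FG ∨ HasCoproducts.{w} C) {X : ARSys.PS C}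
    (hX : ARSys.IsStrict X) (hA : ARSys.IsAdapted J X) (hft : ARSys.GrsFiniteType J X) :
    ARSys.IsARAdic J X := by
  choose Q π hπ using fun e q : ℕ => exists_isQuot (fg_pow_or hJ e) (X.obj (op q))
  let M : ℕ → (q : ℕ) → Subobject (X.obj (op q)) := fun i q =>
    ARSys.Fsub X q q ⊓ kernelSubobject (π (q - i) q)
  have hM : ∀ i, ARSys.IsGrSub J X (M i) := fun i => isGrSub_mk (fun q => inf_le_left) (by
    intro p q a ha W z hz
    rw [Subobject.inf_factors, mem_kernel_iff] at hz
    rw [Subobject.inf_factors, mem_kernel_iff]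
    refine ⟨smul_mem_fsub hA ha z hz.1, ?_⟩
    let d := π (p + q - i) (p + q)
    have hd : kernel.ι (ARSys.tr X (Nat.le_add_left q p)) ≫ (a • d) = 0 := by
      have e := smul_eq_zero_of_isAdapted hA ha _
        (kernel.condition (ARSys.tr X (Nat.le_add_left q p)))
      rw [Linear.comp_smul, ← Linear.smul_comp, e, zero_comp]
    haveI := hX q (p + q) (Nat.le_add_left q p)
    have he : ARSys.HomKilledBy (J ^ (q - i)) (Abelian.epiDesc _ (a • d) hd) :=
      homKilledBy_of_epi (ARSys.tr X (Nat.le_add_left q p)) (by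
        rw [Abelian.comp_epiDesc]
        intro b hb
        rw [smul_smul]
        refine isQuot_killed (hπ (p + q - i) (p + q)) _ ?_
        have : b * a ∈ J ^ (q - i + p) := by rw [pow_add]; exact Ideal.mul_mem_mul hb ha
        exact Ideal.pow_le_pow_right (by omega) this)
    have := isQuot_kills (hπ (q - i) q) he _ hz.2
    rw [Category.assoc, Abelian.comp_epiDesc, Linear.comp_smul] at this
    rw [Linear.smul_comp]
    exact this)
  have hmono : Monotone M := fun i j hij q => inf_le_inf_left _ (le_of_mem fun W x hx => by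
    rw [mem_kernel_iff] at hx ⊢
    exact isQuot_kills (hπ (q - i) q)
      (homKilledBy_mono (Ideal.pow_le_pow_right (by omega)) (isQuot_killed (hπ (q - j) q))) x hx)
  have hzero : ∀ {e q : ℕ}, e = 0 → ∀ {W : C} (x : W ⟶ X.obj (op q)), x ≫ π e q = 0 := by
    rintro e q rfl W x
    have hk := isQuot_killed (hπ 0 q)
    rw [pow_zero, Ideal.one_eq_top] at hk
    rw [eq_zero_of_homKilledBy_top hk, comp_zero]
  have hlub : ∀ q, IsLUB (Set.range fun i => M i q) (ARSys.Fsub X q q) := by
    intro q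
    refine ⟨?_, fun U hU => ?_⟩
    · rintro _ ⟨i, rfl⟩
      exact inf_le_left
    · refine le_trans (le_of_mem fun W x hx => ?_) (hU ⟨q, rfl⟩)
      rw [Subobject.inf_factors, mem_kernel_iff]
      exact ⟨hx, hzero (Nat.sub_self q) x⟩
  obtain ⟨i, hi⟩ := hft M hM hmono hlub
  refine isARAdic_of_fker hJ hX (termKilled_of_isAdapted hA) (r := i) fun n Z φ hφ => ?_
  have hF : (ARSys.Fsub X n n).Factors (ARSys.Fker X n).arrow := by
    rcases n with _ | j
    · exact Subobject.top_factors _
    · exact (fsub_factors_iff (Nat.le_succ j)).mpr (kernelSubobject_arrow_comp _)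
  rw [← hi n, Subobject.inf_factors, mem_kernel_iff] at hF
  exact isQuot_kills (hπ (n - i) n) hφ _ hF.2

theorem grsFiniteType_of_mono [IsNoetherianRing A] {X K : ARSys.PS C} (hX : ARSys.IsAdic J X)
    [IsNoetherianObject (X.obj (op 0))] (ι : K ⟶ X) (hι : ∀ n, Mono (ι.app (op n)))
    (hK : ARSys.IsStrict K) : ARSys.GrsFiniteType J K := by
  intro M hM hmono hlub
  have hA := isAdapted_of_isAdic hX
  obtain ⟨i₀, hi₀⟩ := isGrSub_chain_stationary hX
    (fun i q => imageSubobject ((M i q).arrow ≫ ι.app (op q)))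
    (fun i => isGrSub_mk (fun q => le_of_mem fun W x hx => by
        obtain ⟨W', π, _, y, hy⟩ := mem_image_iff.mp hx
        refine mem_of_epi π ?_
        rw [hy]
        rcases q with _ | j
        · exact Subobject.top_factors _
        · refine (fsub_factors_iff (Nat.le_succ j)).mpr ?_
          rw [Category.assoc, Category.assoc, ← tr_naturality, ← Category.assoc (M i (j + 1)).arrow,
            (fsub_factors_iff _).mp (mem_of_le ((hM i).1 _) mem_arrow), zero_comp, comp_zero])
      (by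
        intro p q a ha W z hz
        obtain ⟨W₁, π₁, _, y, hy⟩ := mem_image_iff.mp hz
        haveI := hK q (p + q) (Nat.le_add_left q p)
        obtain ⟨W₂, π₂, _, w', hw⟩ := surjective_up_to_refinements_of_epi
          (ARSys.tr K (Nat.le_add_left q p)) (y ≫ (M i q).arrow)
        have e := smul_eq_zero_of_isAdapted hA ha (π₂ ≫ π₁ ≫ z - w' ≫ ι.app (op (p + q))) (by
          simp only [Preadditive.sub_comp, Category.assoc, hy, ← tr_naturality, ← reassoc_of% hw,
            sub_self])
        rw [smul_sub, sub_eq_zero] at e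
        refine mem_of_epi π₁ (mem_of_epi π₂ ?_)
        rw [Linear.comp_smul, Linear.comp_smul, e]
        have hm : (M i (p + q)).Factors (a • w') :=
          isGrSub_apply (hM i) ha w' (by rw [← hw]; exact mem_precomp _ (mem_precomp _ mem_arrow))
        rw [← Linear.smul_comp, ← Subobject.factorThru_arrow _ _ hm, Category.assoc]
        exact mem_image_self _ _))
    (fun i j h q => image_arrow_mono (hmono h q))
  refine ⟨i₀, fun q => le_antisymm ((hM i₀).1 q) ((hlub q).2 ?_)⟩
  rintro _ ⟨i, rfl⟩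
  rcases le_total i i₀ with h | h
  · exact hmono h q
  · refine le_of_mem fun W x hx => ?_
    haveI := hι q
    have hx' : (imageSubobject ((M i q).arrow ≫ ι.app (op q))).Factors (x ≫ ι.app (op q)) := by
      rw [← Subobject.factorThru_arrow _ _ hx, Category.assoc]
      exact mem_image_self _ _
    rw [congrFun (hi₀ i h) q] at hx'
    obtain ⟨W', π, _, y, hy⟩ := mem_image_iff.mp hx'
    refine mem_of_epi π ?_
    rw [← Category.assoc, ← Category.assoc, cancel_mono] at hy
    rw [hy]
    exact mem_precomp _ mem_arrow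

/-- A strict subsystem of an adic system with Noetherian degree zero is adic up to translation. -/
theorem isARAdic_of_strict_mono [IsNoetherianRing A] {X K : ARSys.PS C} (hX : ARSys.IsAdic J X)
    [IsNoetherianObject (X.obj (op 0))] (ι : K ⟶ X) (hι : ∀ n, Mono (ι.app (op n)))
    (hK : ARSys.IsStrict K) : ARSys.IsARAdic J K :=
  isARAdic_of_grsFiniteType (Or.inl (IsNoetherian.noetherian J)) hK
    (isAdapted_of_mono ι hι (isAdapted_of_isAdic hX)) (grsFiniteType_of_mono hX ι hι hK)

/-- Increasing sequences of strict subsystems of an adic Noetherian system are stationary. -/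
theorem strict_chain_stationary [IsNoetherianRing A] {X : ARSys.PS C} (hX : ARSys.IsAdic J X)
    [IsNoetherianObject (X.obj (op 0))] (Z : ℕ →o Subobject X)
    (hZ : ∀ k : ℕ, ARSys.IsStrict ((Subobject.underlying.obj (Z k) : ARSys.PS C))) :
    ∃ k₀ : ℕ, ∀ k : ℕ, k₀ ≤ k → Z k = Z k₀ := by
  have hA := isAdapted_of_isAdic hX
  let I := fun (k : ℕ) (n : ℕ) => imageSubobject ((Z k).arrow.app (op n))
  have hI : ∀ {k l}, k ≤ l → ∀ n, I k n ≤ I l n := fun {k l} h n =>
    (imageSubobject_le_iff _ _).mpr (.of_eq ((Subobject.ofLE (Z k) (Z l) (Z.monotone h)).app (op n))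
      (by rw [← NatTrans.comp_app, Subobject.ofLE_arrow]))
  obtain ⟨i₀, hi₀⟩ := isGrSub_chain_stationary hX (fun i q => I i q ⊓ ARSys.Fsub X q q)
    (fun i => isGrSub_mk (fun q => inf_le_right) (by
      intro p q a ha W z hz
      rw [Subobject.inf_factors] at hz ⊢
      refine ⟨?_, smul_mem_fsub hA ha z hz.2⟩
      obtain ⟨W₁, π₁, _, y, hy⟩ := mem_image_iff.mp hz.1
      haveI := hZ i q (p + q) (Nat.le_add_left q p)
      obtain ⟨W₂, π₂, _, w', hw⟩ := surjective_up_to_refinements_of_epi
        (ARSys.tr _ (Nat.le_add_left q p)) y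
      have e := smul_eq_zero_of_isAdapted hA ha
        (π₂ ≫ π₁ ≫ z - w' ≫ (Z i).arrow.app (op (p + q))) (by
          simp only [Preadditive.sub_comp, Category.assoc, hy, ← tr_naturality, reassoc_of% hw,
            sub_self])
      rw [smul_sub, sub_eq_zero] at e
      refine mem_of_epi π₁ (mem_of_epi π₂ ?_)
      rw [Linear.comp_smul, Linear.comp_smul, e, ← Linear.smul_comp]
      exact mem_image_self _ _))
    (fun i j h q => inf_le_inf_right _ (hI h q))
  refine ⟨i₀, fun k hk => le_antisymm (le_of_app fun n => ?_) (Z.2 hk)⟩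
  suffices H : ∀ n, I k n ≤ I i₀ n from (imageSubobject_le_iff _ _).mp (H n)
  intro n
  induction n with
  | zero =>
    refine le_of_mem fun W x hx => ?_
    have : (I k 0 ⊓ ARSys.Fsub X 0 0).Factors x := by
      rw [Subobject.inf_factors]; exact ⟨hx, Subobject.top_factors _⟩
    rw [congrFun (hi₀ k hk) 0, Subobject.inf_factors] at this
    exact this.1
  | succ n ih =>
    refine le_of_mem fun W x hx => ?_
    have hx' : (I k n).Factors (x ≫ ARSys.tr X (Nat.le_succ n)) := by
      obtain ⟨W', π, _, y, hy⟩ := mem_image_iff.mp hx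
      refine mem_of_epi π ?_
      rw [reassoc_of% hy, ← tr_naturality, ← Category.assoc]
      exact mem_image_self _ _
    obtain ⟨W₁, π₁, _, y, hy⟩ := mem_image_iff.mp (mem_of_le ih hx')
    haveI := hZ i₀ n (n + 1) (Nat.le_succ n)
    obtain ⟨W₂, π₂, _, z, hz⟩ :=
      surjective_up_to_refinements_of_epi (ARSys.tr _ (Nat.le_succ n)) y
    have h₀ : (I i₀ (n + 1)).Factors (z ≫ (Z i₀).arrow.app (op (n + 1))) := mem_image_self _ _
    have hd : (I k (n + 1) ⊓ ARSys.Fsub X (n + 1) (n + 1)).Factors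
        (π₂ ≫ π₁ ≫ x - z ≫ (Z i₀).arrow.app (op (n + 1))) := by
      rw [Subobject.inf_factors]
      refine ⟨mem_sub (mem_precomp _ (mem_precomp _ hx)) (mem_of_le (hI hk _) h₀),
        (fsub_factors_iff (Nat.le_succ n)).mpr ?_⟩
      simp only [Preadditive.sub_comp, Category.assoc, hy, ← tr_naturality, reassoc_of% hz,
        sub_self]
    rw [congrFun (hi₀ k hk) (n + 1), Subobject.inf_factors] at hd
    refine mem_of_epi π₁ (mem_of_epi π₂ ?_)
    rw [← sub_add_cancel (π₂ ≫ π₁ ≫ x) (z ≫ (Z i₀).arrow.app (op (n + 1)))]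
    exact mem_add hd.1 h₀

theorem isARAdicNoeth_left [IsNoetherianRing A] {S : ShortComplex (ARSys.PS C)}
    (hS : S.ShortExact) (h₂ : ARSys.IsARAdicNoeth J S.X₂) (h₃ : ARSys.IsARAdic J S.X₃) :
    ARSys.IsARAdicNoeth J S.X₁ := by
  have hN : ∀ n, IsNoetherianObject (S.X₁.obj (op n)) := fun n =>
    haveI := mono_app_f hS n
    haveI := h₂.2 n
    isNoetherianObject_of_mono (S.f.app (op n))
  have h₁ := isMLAR_left hS h₂.1.1 (isMLAR_of_isARAdic h₂.1) h₃
  have k₁ := termKilled_of_mono S.f (mono_app_f hS) h₂.1.1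
  obtain ⟨⟨-, Y, u, hY, hu⟩, hX⟩ := h₂
  obtain ⟨R, w, hw₁, hw₂, hw₃⟩ := exists_inverse_of_isARIso u hu
  haveI : IsNoetherianObject (Y.obj (op 0)) := by
    haveI := hX (0 + R)
    haveI : Epi (u.app (op (0 + R)) ≫ w 0) := by rw [hw₂]; exact isStrict_of_isAdic hY _ _ _
    haveI : Epi (w 0) := epi_of_epi (u.app (op (0 + R))) _
    exact isNoetherianObject_of_epi (w 0)
  haveI := hS.mono_f
  let v := u ≫ S.g
  let k : kernel v ⟶ S.X₁ :=
    hS.exact.lift (kernel.ι v ≫ u) (by rw [Category.assoc, kernel.condition])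
  have hkf : ∀ n, k.app (op n) ≫ S.f.app (op n) = (kernel.ι v).app (op n) ≫ u.app (op n) :=
    fun n => NatTrans.congr_app (hS.exact.lift_f _ _) (op n)
  choose w' hw' using fun n => exists_lift_kernel_ι v (S.f.app (op (n + R)) ≫ w n)
    (show (S.f.app (op (n + R)) ≫ w n) ≫ u.app (op n) ≫ S.g.app (op n) = 0 by
      rw [Category.assoc, reassoc_of% hw₁ n, tr_naturality, ← Category.assoc, app_f_g, zero_comp])
  have hk : ARSys.IsARIso k := by
    refine isARIso_of_inverse k R w' (fun n => ?_) (fun n => ?_)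
    · haveI := mono_app_f hS n
      rw [← cancel_mono (S.f.app (op n)), Category.assoc, hkf, reassoc_of% hw',
        hw₁, tr_naturality]
    · haveI := mono_kernel_ι_app v n
      rw [← cancel_mono ((kernel.ι v).app (op n)), Category.assoc, hw', reassoc_of% hkf,
        hw₂, tr_naturality]
  obtain ⟨K', ι', hK', _, hι'⟩ := exists_strict_sub ((isMLAR_of_isARIso hk).mpr h₁)
  have hm : ∀ n, Mono ((ι' ≫ kernel.ι v).app (op n)) := fun n =>
    inferInstanceAs (Mono (((evaluation ℕᵒᵖ C).obj (op n)).map (ι' ≫ kernel.ι v)))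
  obtain ⟨-, Z, z, hZ, hz⟩ := isARAdic_of_strict_mono hY _ hm hK'
  exact ⟨⟨k₁, Z, z ≫ ι' ≫ k, hZ, isARIso_comp hz (isARIso_comp hι' hk)⟩, hN⟩

theorem isARAdicNoeth_kernel_cokernel [IsNoetherianRing A] {X Y : ARSys.PS C} (u : X ⟶ Y)
    (hX : ARSys.IsARAdicNoeth J X) (hY : ARSys.IsARAdicNoeth J Y) :
    ARSys.IsARAdicNoeth J (kernel u) ∧ ARSys.IsARAdicNoeth J (cokernel u) := by
  let p := Abelian.factorThruImage u
  let ι := Abelian.image.ι u
  haveI : Epi p := inferInstanceAs (Epi (Abelian.factorThruImage u))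
  have hp : ∀ n, Epi (p.app (op n)) := fun n =>
    inferInstanceAs (Epi (((evaluation ℕᵒᵖ C).obj (op n)).map p))
  have hπ : ∀ n, Epi ((cokernel.π u).app (op n)) := epi_cokernel_π_app u
  let T := ShortComplex.mk ι (cokernel.π u) (kernel.condition _)
  have hT : T.ShortExact :=
    { exact := ShortComplex.exact_of_f_is_kernel _ (kernelIsKernel (cokernel.π u)) }
  have hQ : ARSys.IsARAdicNoeth J (cokernel u) :=
    ⟨isARAdic_right hT (termKilled_of_epi _ hπ hY.1.1)
      (isMLAR_of_epi p hp (isMLAR_of_isARAdic hX.1)) hY.1,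
      fun n => haveI := hπ n; haveI := hY.2 n; isNoetherianObject_of_epi ((cokernel.π u).app (op n))⟩
  have hI : ARSys.IsARAdicNoeth J (Abelian.image u) := isARAdicNoeth_left hT hY hQ.1
  refine ⟨?_, hQ⟩
  have hw : kernel.ι u ≫ p = 0 := by
    rw [← cancel_mono ι, Category.assoc, zero_comp]
    exact (congrArg (fun f => kernel.ι u ≫ f) (Abelian.image.fac u)).trans (kernel.condition u)
  let U := ShortComplex.mk (kernel.ι u) p hw
  have hU : U.ShortExact :=
    { exact := by
        let U' := ShortComplex.mk (kernel.ι u) u (kernel.condition u)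
        let φ : U ⟶ U' :=
          { τ₁ := 𝟙 _
            τ₂ := 𝟙 _
            τ₃ := ι
            comm₁₂ := (Category.id_comp _).trans (Category.comp_id _).symm
            comm₂₃ := (Category.id_comp _).trans (Abelian.image.fac u).symm }
        haveI : Epi φ.τ₁ := inferInstanceAs (Epi (𝟙 (kernel u)))
        haveI : IsIso φ.τ₂ := inferInstanceAs (IsIso (𝟙 X))
        haveI : Mono φ.τ₃ := inferInstanceAs (Mono ι)
        exact (ShortComplex.exact_iff_of_epi_of_isIso_of_mono φ).mpr
          (ShortComplex.exact_of_f_is_kernel _ (kernelIsKernel u)) }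
  exact isARAdicNoeth_left hU hX hI.1

end Groth.Agent.H3CAlg.ARS
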