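import Groth.Agent.H3CAlg.ARS.ML
import Mathlib.CategoryTheory.Limits.Preserves.Shapes.Biproducts
import Mathlib.RingTheory.Finiteness.Ideal

/-!
# Quotients modulo ideals, adic systems
-/

universe w v u

open CategoryTheory CategoryTheory.Limits Opposite

namespace Groth.Agent.H3CAlg.ARS

variable {C : Type u} [Category.{v} C] {A : Type w} [CommRing A]

section Preadditive

variable [Preadditive C] [Linear A C] {I I' : Ideal A} {X Y Z : C}

theorem homKilledBy_of_target (h : ARSys.KilledBy I Y) (f : X ⟶ Y) : ARSys.HomKilledBy I f := by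
  intro a ha
  rw [← Category.comp_id f, ← Linear.comp_smul, h a ha, comp_zero]

theorem homKilledBy_of_source (h : ARSys.KilledBy I X) (f : X ⟶ Y) : ARSys.HomKilledBy I f := by
  intro a ha
  rw [← Category.id_comp f, ← Linear.smul_comp, h a ha, zero_comp]

theorem homKilledBy_mono (hI : I ≤ I') {f : X ⟶ Y} (h : ARSys.HomKilledBy I' f) :
    ARSys.HomKilledBy I f :=
  fun a ha => h a (hI ha)

theorem killedBy_mono (hI : I ≤ I') (h : ARSys.KilledBy I' X) : ARSys.KilledBy I X :=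
  fun a ha => h a (hI ha)

theorem homKilledBy_comp {f : X ⟶ Y} (h : ARSys.HomKilledBy I f) (g : Y ⟶ Z) :
    ARSys.HomKilledBy I (f ≫ g) := by
  intro a ha
  rw [← Linear.smul_comp, h a ha, zero_comp]

theorem homKilledBy_comp' (f : X ⟶ Y) {g : Y ⟶ Z} (h : ARSys.HomKilledBy I g) :
    ARSys.HomKilledBy I (f ≫ g) := by
  intro a ha
  rw [← Linear.comp_smul, h a ha, comp_zero]

theorem homKilledBy_of_epi (f : X ⟶ Y) [Epi f] {g : Y ⟶ Z} (h : ARSys.HomKilledBy I (f ≫ g)) :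
    ARSys.HomKilledBy I g := by
  intro a ha
  rw [← cancel_epi f, Linear.comp_smul, h a ha, comp_zero]

theorem killedBy_of_epi (f : X ⟶ Y) [Epi f] (h : ARSys.KilledBy I X) : ARSys.KilledBy I Y :=
  fun a ha => homKilledBy_of_epi f (homKilledBy_of_source h (f ≫ 𝟙 Y)) a ha

theorem killedBy_of_mono (f : X ⟶ Y) [Mono f] (h : ARSys.KilledBy I Y) : ARSys.KilledBy I X := by
  intro a ha
  rw [← cancel_mono f, Linear.smul_comp, Category.id_comp, zero_comp]
  exact homKilledBy_of_target h f a ha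

theorem eq_zero_of_homKilledBy_top {f : X ⟶ Y} (h : ARSys.HomKilledBy (⊤ : Ideal A) f) : f = 0 := by
  simpa using h 1 trivial

theorem killedBy_iff_homKilledBy : ARSys.KilledBy I X ↔ ARSys.HomKilledBy I (𝟙 X) := Iff.rfl

theorem isQuot_epi {p : X ⟶ Y} (hp : ARSys.IsQuot I p) : Epi p := by
  refine ⟨fun {W} g h e => ?_⟩
  obtain ⟨ψ, _, hψ⟩ := hp.2 W (p ≫ g) (homKilledBy_comp (homKilledBy_of_target hp.1 p) g)
  rw [hψ g rfl, hψ h e.symm]

theorem isQuot_killed {p : X ⟶ Y} (hp : ARSys.IsQuot I p) : ARSys.HomKilledBy I p :=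
  homKilledBy_of_target hp.1 p

theorem isQuot_desc {p : X ⟶ Y} (hp : ARSys.IsQuot I p) {φ : X ⟶ Z}
    (h : ARSys.HomKilledBy I φ) : ∃ ψ : Y ⟶ Z, p ≫ ψ = φ :=
  (hp.2 Z φ h).exists

theorem isQuot_mk {p : X ⟶ Y} [Epi p] (h₁ : ARSys.KilledBy I Y)
    (h₂ : ∀ (Z : C) (φ : X ⟶ Z), ARSys.HomKilledBy I φ → ∃ ψ : Y ⟶ Z, p ≫ ψ = φ) :
    ARSys.IsQuot I p := by
  refine ⟨h₁, fun Z φ hφ => ?_⟩
  obtain ⟨ψ, hψ⟩ := h₂ Z φ hφ
  exact ⟨ψ, hψ, fun ψ' hψ' => by rw [← cancel_epi p, hψ', hψ]⟩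

theorem isStrict_of_isAdic {J : Ideal A} {X : ARSys.PS C} (h : ARSys.IsAdic J X) :
    ARSys.IsStrict X :=
  fun n m hnm => isQuot_epi (h.2 n m hnm)

theorem pow_succ_le {J : Ideal A} {n m : ℕ} (h : n ≤ m) : J ^ (m + 1) ≤ J ^ (n + 1) :=
  Ideal.pow_le_pow_right (Nat.succ_le_succ h)

end Preadditive

section Abelian

variable [Abelian C] [Linear A C]

theorem isQuot_mk' {I : Ideal A} {X Y : C} {p : X ⟶ Y} [Epi p] (h₁ : ARSys.KilledBy I Y)
    (h₂ : ∀ (Z : C) (φ : X ⟶ Z), ARSys.HomKilledBy I φ → kernel.ι p ≫ φ = 0) :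
    ARSys.IsQuot I p :=
  isQuot_mk h₁ fun Z φ hφ => ⟨Abelian.epiDesc p φ (h₂ Z φ hφ), Abelian.comp_epiDesc _ _ _⟩

theorem isQuot_kills {I : Ideal A} {X Y Z : C} {p : X ⟶ Y} (hp : ARSys.IsQuot I p) {φ : X ⟶ Z}
    (hφ : ARSys.HomKilledBy I φ) {W : C} (x : W ⟶ X) (hx : x ≫ p = 0) : x ≫ φ = 0 := by
  obtain ⟨ψ, rfl⟩ := isQuot_desc hp hφ
  rw [reassoc_of% hx, zero_comp]

/-- Quotient maps modulo an ideal exist, if the ideal is finitely generated or there are enough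
coproducts. -/
theorem exists_isQuot {I : Ideal A} (hI : I.FG ∨ HasCoproducts.{w} C) (X : C) :
    ∃ (Q : C) (p : X ⟶ Q), ARSys.IsQuot I p := by
  rcases hI with ⟨s, rfl⟩ | hC
  · classical
    suffices H : ∃ (Q : C) (p : X ⟶ Q), Epi p ∧ (∀ a ∈ s, a • p = 0) ∧
        ∀ (Z : C) (φ : X ⟶ Z), (∀ a ∈ s, a • φ = 0) → ∃ ψ, p ≫ ψ = φ by
      obtain ⟨Q, p, _, h₁, h₂⟩ := H
      refine ⟨Q, p, isQuot_mk ?_ fun Z φ hφ => h₂ Z φ fun a ha => hφ a (Submodule.subset_span ha)⟩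
      intro a ha
      rw [← cancel_epi p, Linear.comp_smul, Category.comp_id, comp_zero]
      refine Submodule.span_induction (fun x hx => h₁ x hx) (zero_smul A p)
        (fun x y _ _ hx hy => by rw [add_smul, hx, hy, add_zero])
        (fun c x _ hx => by rw [smul_eq_mul, mul_smul, hx, smul_zero]) ha
    induction s using Finset.induction with
    | empty => exact ⟨X, 𝟙 X, inferInstance, by simp, fun Z φ _ => ⟨φ, Category.id_comp φ⟩⟩
    | insert a t _ ih =>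
      obtain ⟨Q, p, _, h₁, h₂⟩ := ih
      refine ⟨cokernel (a • 𝟙 Q), p ≫ cokernel.π _, epi_comp _ _, fun b hb => ?_, fun Z φ hφ => ?_⟩
      · rcases Finset.mem_insert.mp hb with rfl | hb
        · rw [← Linear.comp_smul, ← Category.id_comp (cokernel.π (b • 𝟙 Q)), ← Linear.smul_comp,
            cokernel.condition, comp_zero]
        · rw [← Linear.smul_comp, h₁ b hb, zero_comp]
      · obtain ⟨ψ, rfl⟩ := h₂ Z φ fun b hb => hφ b (Finset.mem_insert_of_mem hb)
        have h0 : (a • 𝟙 Q) ≫ ψ = 0 := by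
          rw [Linear.smul_comp, Category.id_comp, ← cancel_epi p, Linear.comp_smul,
            hφ a (Finset.mem_insert_self a t), comp_zero]
        exact ⟨cokernel.desc _ ψ h0, by rw [Category.assoc, cokernel.π_desc]⟩
  · haveI := hC I
    let f : (∐ fun _ : I => X) ⟶ X := Sigma.desc fun a => (a : A) • 𝟙 X
    refine ⟨cokernel f, cokernel.π f, isQuot_mk ?_ fun Z φ hφ => ⟨cokernel.desc f φ ?_, cokernel.π_desc _ _ _⟩⟩
    · intro a ha
      rw [← cancel_epi (cokernel.π f), Linear.comp_smul, Category.comp_id, comp_zero]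
      have h := Sigma.ι (fun _ : I => X) ⟨a, ha⟩ ≫= cokernel.condition f
      rwa [Sigma.ι_desc_assoc, comp_zero, Linear.smul_comp, Category.id_comp] at h
    · refine Sigma.hom_ext _ _ fun a => ?_
      rw [Sigma.ι_desc_assoc, comp_zero, Linear.smul_comp, Category.id_comp]
      exact hφ _ a.2

theorem fg_pow_or {J : Ideal A} (hJ : J.FG ∨ HasCoproducts.{w} C) (k : ℕ) :
    (J ^ k).FG ∨ HasCoproducts.{w} C :=
  hJ.imp_left fun h => Ideal.FG.pow h

theorem termKilled_of_epi {J : Ideal A} {X Y : ARSys.PS C} (g : X ⟶ Y)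
    (hg : ∀ n, Epi (g.app (op n))) (h : ARSys.TermKilled J X) : ARSys.TermKilled J Y :=
  fun n => haveI := hg n; killedBy_of_epi (g.app (op n)) (h n)

theorem termKilled_of_mono {J : Ideal A} {X Y : ARSys.PS C} (f : X ⟶ Y)
    (hf : ∀ n, Mono (f.app (op n))) (h : ARSys.TermKilled J Y) : ARSys.TermKilled J X :=
  fun n => haveI := hf n; killedBy_of_mono (f.app (op n)) (h n)

theorem isAdic_right {J : Ideal A} {S : ShortComplex (ARSys.PS C)} (hS : S.ShortExact)
    (h₁ : ARSys.IsStrict S.X₁) (h₂ : ARSys.IsAdic J S.X₂) : ARSys.IsAdic J S.X₃ := by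
  have k₃ := termKilled_of_epi S.g (epi_app_g hS) h₂.1
  refine ⟨k₃, fun n m h => ?_⟩
  haveI := epi_app_g hS n
  haveI := epi_app_g hS m
  haveI := isStrict_of_isAdic h₂ n m h
  haveI : Epi (S.g.app (op m) ≫ ARSys.tr S.X₃ h) := by rw [← tr_naturality]; exact epi_comp _ _
  haveI : Epi (ARSys.tr S.X₃ h) := epi_of_epi (S.g.app (op m)) _
  refine isQuot_mk (k₃ n) fun Z φ hφ => ?_
  obtain ⟨ψ, hψ⟩ := isQuot_desc (h₂.2 n m h) (homKilledBy_comp' (S.g.app (op m)) hφ)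
  have h0 : S.f.app (op n) ≫ ψ = 0 := by
    haveI := h₁ n m h
    rw [← cancel_epi (ARSys.tr S.X₁ h), tr_naturality_assoc, hψ, ← Category.assoc, app_f_g,
      zero_comp, comp_zero]
  obtain ⟨χ, hχ⟩ := exists_desc_g hS ψ h0
  exact ⟨χ, by rw [← cancel_epi (S.g.app (op m)), ← tr_naturality_assoc, hχ, hψ]⟩

theorem isStrict_left {J : Ideal A} {S : ShortComplex (ARSys.PS C)} (hS : S.ShortExact)
    (k₂ : ARSys.TermKilled J S.X₂) (h₂ : ARSys.IsStrict S.X₂) (h₃ : ARSys.IsAdic J S.X₃) :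
    ARSys.IsStrict S.X₁ := by
  refine (isStrict_iff _).mpr fun n m h => ?_
  haveI := mono_app_f hS n
  refine .of_comp_mono (S.f.app (op n)) ?_
  rw [Category.id_comp, imLE_iff_cokernel]
  let c := cokernel.π (ARSys.tr S.X₁ h ≫ S.f.app (op n))
  have h0 : S.f.app (op m) ≫ ARSys.tr S.X₂ h ≫ c = 0 := by
    rw [← Category.assoc, ← tr_naturality, cokernel.condition]
  obtain ⟨φ, hφ⟩ := exists_desc_g hS _ h0
  haveI := epi_app_g hS m
  have hk : ARSys.HomKilledBy (J ^ (n + 1)) φ :=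
    homKilledBy_of_epi (S.g.app (op m))
      (hφ ▸ homKilledBy_comp (homKilledBy_of_target (k₂ n) _) c)
  obtain ⟨ψ, rfl⟩ := isQuot_desc (h₃.2 n m h) hk
  haveI := h₂ n m h
  have e : c = S.g.app (op n) ≫ ψ := by
    rw [← cancel_epi (ARSys.tr S.X₂ h), ← hφ, tr_naturality_assoc]
  change S.f.app (op n) ≫ c = 0
  rw [e, ← Category.assoc, app_f_g, zero_comp]

theorem isAdic_middle {J : Ideal A} {S : ShortComplex (ARSys.PS C)} (hS : S.ShortExact)
    (k₂ : ARSys.TermKilled J S.X₂) (h₁ : ARSys.IsAdic J S.X₁) (h₃ : ARSys.IsAdic J S.X₃) :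
    ARSys.IsAdic J S.X₂ := by
  refine ⟨k₂, fun n m h => ?_⟩
  have hstrict : Epi (ARSys.tr S.X₂ h) := by
    rw [epi_iff_imLE, imLE_iff_cokernel, Category.id_comp]
    let c := cokernel.π (ARSys.tr S.X₂ h)
    haveI := isStrict_of_isAdic h₁ n m h
    have h0 : S.f.app (op n) ≫ c = 0 := by
      rw [← cancel_epi (ARSys.tr S.X₁ h), tr_naturality_assoc, cokernel.condition, comp_zero,
        comp_zero]
    obtain ⟨φ, hφ⟩ := exists_desc_g hS _ h0
    haveI := isStrict_of_isAdic h₃ n m h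
    haveI := epi_app_g hS m
    change c = 0
    have : S.g.app (op m) ≫ ARSys.tr S.X₃ h ≫ φ = 0 := by
      rw [← tr_naturality_assoc, hφ, cokernel.condition]
    rw [← Category.assoc, ← comp_zero (f := S.g.app (op m) ≫ ARSys.tr S.X₃ h), cancel_epi] at this
    rw [← hφ, this, comp_zero]
  refine isQuot_mk' (k₂ n) fun Z φ hφ => ?_
  obtain ⟨a, ha⟩ := isQuot_desc (h₁.2 n m h) (homKilledBy_comp' (S.f.app (op m)) hφ)
  let x := kernel.ι (ARSys.tr S.X₂ h)
  have hx : x ≫ ARSys.tr S.X₂ h = 0 := kernel.condition _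
  let q := biprod.lift (ARSys.tr S.X₂ h) φ
  have hq : ARSys.HomKilledBy (J ^ (n + 1)) q := by
    intro b hb
    refine biprod.hom_ext _ _ ?_ ?_
    · rw [Linear.smul_comp, biprod.lift_fst, zero_comp]
      exact homKilledBy_of_target (k₂ n) _ b hb
    · rw [Linear.smul_comp, biprod.lift_snd, zero_comp]
      exact hφ b hb
  let c := cokernel.π (S.f.app (op m) ≫ q)
  obtain ⟨χ, hχ⟩ := exists_desc_g hS (q ≫ c) (by rw [← Category.assoc, cokernel.condition])
  haveI := epi_app_g hS m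
  obtain ⟨χ', rfl⟩ := isQuot_desc (h₃.2 n m h)
    (homKilledBy_of_epi (S.g.app (op m)) (hχ ▸ homKilledBy_comp hq c))
  have h0 : (x ≫ q) ≫ c = 0 := by
    rw [Category.assoc, ← hχ, ← tr_naturality_assoc, reassoc_of% hx, zero_comp]
  obtain ⟨W, π, _, v, hv⟩ := ((imLE_iff_cokernel _ _).mpr h0 : ImLE (x ≫ q) (S.f.app (op m) ≫ q))
  have e₁ := hv =≫ biprod.fst
  have e₂ := hv =≫ biprod.snd
  simp only [q, Category.assoc, biprod.lift_fst, biprod.lift_snd, hx, comp_zero, ← ha] at e₁ e₂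
  haveI := mono_app_f hS n
  rw [← tr_naturality] at e₁
  have e₃ : v ≫ ARSys.tr S.X₁ h = 0 := by
    rw [← cancel_mono (S.f.app (op n)), Category.assoc, zero_comp]
    exact e₁.symm
  rw [reassoc_of% e₃, zero_comp, ← comp_zero (f := π), cancel_epi] at e₂
  exact e₂

/-- Morphisms out of a translate of an adic system into a killed system descend. -/
theorem existsUnique_desc {J : Ideal A} {X Y : ARSys.PS C} (hX : ARSys.IsAdic J X)
    (hY : ARSys.TermKilled J Y) {r : ℕ} (f : ∀ n : ℕ, X.obj (op (n + r)) ⟶ Y.obj (op n))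
    (hf : ∀ (n m : ℕ) (h : n ≤ m),
      ARSys.tr X (Nat.add_le_add_right h r) ≫ f n = f m ≫ ARSys.tr Y h) :
    ∃! g : X ⟶ Y, ∀ n : ℕ, f n = ARSys.tr X (Nat.le_add_right n r) ≫ g.app (op n) := by
  choose g hg using fun n => isQuot_desc (hX.2 n (n + r) (Nat.le_add_right n r))
    (homKilledBy_of_target (hY n) (f n))
  refine ⟨homMk g fun n m h => ?_, fun n => by simp [hg], fun g' hg' => ps_hom_ext fun n => ?_⟩
  · haveI := isQuot_epi (hX.2 m (m + r) (Nat.le_add_right m r))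
    rw [← cancel_epi (ARSys.tr X (Nat.le_add_right m r)), tr_tr_assoc,
      reassoc_of% hg, ← hf n m h, ← hg n, tr_tr_assoc]
  · haveI := isQuot_epi (hX.2 n (n + r) (Nat.le_add_right n r))
    rw [← cancel_epi (ARSys.tr X (Nat.le_add_right n r)), ← hg' n, homMk_app, hg]

end Abelian

end Groth.Agent.H3CAlg.ARS
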