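import Groth.Prelude.Def_ARSys
import Mathlib.CategoryTheory.Abelian.Refinements
import Mathlib.CategoryTheory.Functor.OfSequence
import Mathlib.Algebra.Homology.ShortComplex.ShortExact
import Mathlib.CategoryTheory.Preadditive.AdditiveFunctor

/-!
# Basic tools for projective systems up to translation
-/

universe w v u

open CategoryTheory CategoryTheory.Limits Opposite

namespace Groth.Agent.H3CAlg.ARS

variable {C : Type u} [Category.{v} C]

section ImLE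

variable [Abelian C]

/-- The image of `f` is contained in the image of `g`, in refinement form. -/
def ImLE {X X' Y : C} (f : X ⟶ Y) (g : X' ⟶ Y) : Prop :=
  ∃ (A : C) (π : A ⟶ X) (_ : Epi π) (y : A ⟶ X'), π ≫ f = y ≫ g

theorem imLE_iff_cokernel {X X' Y : C} (f : X ⟶ Y) (g : X' ⟶ Y) :
    ImLE f g ↔ f ≫ cokernel.π g = 0 :=
  ((CokernelCofork.IsColimit.comp_π_eq_zero_iff_up_to_refinements (cokernelIsCokernel g) f)).symm

/-- A generalized element in the image of `f` is, up to refinement, in the image of `g`. -/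
theorem ImLE.lift {X X' Y : C} {f : X ⟶ Y} {g : X' ⟶ Y} (h : ImLE f g) {A : C} (x : A ⟶ X) :
    ∃ (A' : C) (π : A' ⟶ A) (_ : Epi π) (y : A' ⟶ X'), π ≫ x ≫ f = y ≫ g := by
  obtain ⟨B, ρ, _, z, hz⟩ := h
  obtain ⟨A', π, hπ, t, ht⟩ := surjective_up_to_refinements_of_epi ρ x
  exact ⟨A', π, hπ, t ≫ z, by rw [reassoc_of% ht, hz, Category.assoc]⟩

theorem ImLE.of_eq {X X' Y : C} {f : X ⟶ Y} {g : X' ⟶ Y} (y : X ⟶ X') (h : f = y ≫ g) :
    ImLE f g :=
  ⟨X, 𝟙 X, inferInstance, y, by rw [Category.id_comp, h]⟩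

theorem ImLE.refl {X Y : C} (f : X ⟶ Y) : ImLE f f := .of_eq (𝟙 X) (by simp)

theorem ImLE.trans {X X' X'' Y : C} {f : X ⟶ Y} {g : X' ⟶ Y} {h : X'' ⟶ Y}
    (h₁ : ImLE f g) (h₂ : ImLE g h) : ImLE f h := by
  rw [imLE_iff_cokernel] at h₂
  obtain ⟨A, π, _, y, hy⟩ := h₁
  rw [imLE_iff_cokernel, ← cancel_epi π, reassoc_of% hy, h₂, comp_zero, comp_zero]

theorem ImLE.comp {X X' Y Z : C} {f : X ⟶ Y} {g : X' ⟶ Y} (h₁ : ImLE f g) (h : Y ⟶ Z) :
    ImLE (f ≫ h) (g ≫ h) := by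
  obtain ⟨A, π, hπ, y, hy⟩ := h₁
  exact ⟨A, π, hπ, y, by rw [reassoc_of% hy]⟩

theorem ImLE.precomp {X X' W Y : C} {f : X ⟶ Y} {g : X' ⟶ Y} (h₁ : ImLE f g) (k : W ⟶ X) :
    ImLE (k ≫ f) g := by
  obtain ⟨A', π, hπ, y, hy⟩ := h₁.lift k
  exact ⟨A', π, hπ, y, hy⟩

theorem ImLE.of_epi {X X' W Y : C} {f : X ⟶ Y} {g : X' ⟶ Y} (e : W ⟶ X) [Epi e]
    (h₁ : ImLE (e ≫ f) g) : ImLE f g := by
  rw [imLE_iff_cokernel] at h₁ ⊢
  rwa [Category.assoc, ← comp_zero (f := e), cancel_epi] at h₁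

theorem ImLE.comp_eq_zero {X X' Y Z : C} {f : X ⟶ Y} {g : X' ⟶ Y} (h₁ : ImLE f g) (h : Y ⟶ Z)
    (hg : g ≫ h = 0) : f ≫ h = 0 := by
  obtain ⟨A, π, _, y, hy⟩ := h₁
  rw [← cancel_epi π, reassoc_of% hy, hg, comp_zero, comp_zero]

theorem ImLE.of_comp_mono {X X' Y Z : C} {f : X ⟶ Y} {g : X' ⟶ Y} (h : Y ⟶ Z) [Mono h]
    (h₁ : ImLE (f ≫ h) (g ≫ h)) : ImLE f g := by
  obtain ⟨A, π, hπ, y, hy⟩ := h₁
  exact ⟨A, π, hπ, y, by rwa [← cancel_mono h, Category.assoc, Category.assoc]⟩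

theorem epi_iff_imLE {X Y : C} (f : X ⟶ Y) : Epi f ↔ ImLE (𝟙 Y) f := by
  refine ⟨fun _ => ?_, fun h => ?_⟩
  · exact ⟨X, f, inferInstance, 𝟙 X, by simp⟩
  · rw [imLE_iff_cokernel, Category.id_comp] at h
    exact Preadditive.epi_of_cokernel_zero h

theorem imageSubobject_le_iff {X X' Y : C} (f : X ⟶ Y) (g : X' ⟶ Y) :
    imageSubobject f ≤ imageSubobject g ↔ ImLE f g := by
  constructor
  · intro h
    have h₁ : ImLE f (imageSubobject g).arrow :=
      .of_eq (factorThruImageSubobject f ≫ Subobject.ofLE _ _ h) (by simp)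
    refine h₁.trans (.of_epi (factorThruImageSubobject g) ?_)
    rw [imageSubobject_arrow_comp]
    exact .refl g
  · intro h
    have hπ : (imageSubobject g).arrow ≫ cokernel.π (imageSubobject g).arrow = 0 :=
      cokernel.condition _
    have hg : g ≫ cokernel.π (imageSubobject g).arrow = 0 := by
      conv_lhs => arg 1; rw [← imageSubobject_arrow_comp g]
      rw [Category.assoc, hπ, comp_zero]
    exact imageSubobject_le _ (Abelian.monoLift (imageSubobject g).arrow f (h.comp_eq_zero _ hg))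
      (Abelian.monoLift_comp _ _ _)

theorem imageSubobject_eq_iff {X X' Y : C} (f : X ⟶ Y) (g : X' ⟶ Y) :
    imageSubobject f = imageSubobject g ↔ ImLE f g ∧ ImLE g f := by
  rw [le_antisymm_iff, imageSubobject_le_iff, imageSubobject_le_iff]

theorem subobject_le_iff {Y : C} (P Q : Subobject Y) : P ≤ Q ↔ ImLE P.arrow Q.arrow := by
  rw [← imageSubobject_le_iff, imageSubobject_mono, imageSubobject_mono, Subobject.mk_arrow,
    Subobject.mk_arrow]

end ImLE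

section Tr

variable (X : ARSys.PS C)

@[simp]
theorem tr_self {n : ℕ} (h : n ≤ n) : ARSys.tr X h = 𝟙 _ := by
  simp [ARSys.tr]

@[reassoc (attr := simp)]
theorem tr_tr {n m l : ℕ} (h₁ : m ≤ l) (h₂ : n ≤ m) :
    ARSys.tr X h₁ ≫ ARSys.tr X h₂ = ARSys.tr X (h₂.trans h₁) := by
  rw [← X.map_comp]
  rfl

variable {X} {Y : ARSys.PS C} (u : X ⟶ Y)

@[reassoc]
theorem tr_naturality {n m : ℕ} (h : n ≤ m) :
    ARSys.tr X h ≫ u.app (op n) = u.app (op m) ≫ ARSys.tr Y h :=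
  u.naturality _

theorem tr_shift (r : ℕ) {n m : ℕ} (h : n ≤ m) :
    ARSys.tr ((ARSys.shift C r).obj X) h =
      ARSys.tr X (Nat.add_le_add_right h r : n + r ≤ m + r) := rfl

theorem shift_map_app (r n : ℕ) :
    ((ARSys.shift C r).map u).app (op n) = u.app (op (n + r)) := rfl

/-- A morphism of systems given by components compatible with the transition maps. -/
@[simps]
def homMk (a : ∀ n : ℕ, X.obj (op n) ⟶ Y.obj (op n))
    (ha : ∀ (n m : ℕ) (h : n ≤ m), ARSys.tr X h ≫ a n = a m ≫ ARSys.tr Y h) : X ⟶ Y where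
  app n := a n.unop
  naturality {i j} f := by
    obtain ⟨i⟩ := i
    obtain ⟨j⟩ := j
    exact ha j i (leOfHom f.unop)

theorem ps_hom_ext {u v : X ⟶ Y} (h : ∀ n : ℕ, u.app (op n) = v.app (op n)) : u = v := by
  ext ⟨n⟩
  exact h n

variable (X) in
/-- The canonical morphism `X[r] ⟶ X`. -/
def shiftTo (r : ℕ) : (ARSys.shift C r).obj X ⟶ X :=
  homMk (fun n => ARSys.shiftMap X r n) fun n m h => by
    rw [tr_shift]
    exact (tr_tr X _ _).trans (tr_tr X _ _).symm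

@[simp]
theorem shiftTo_app (r n : ℕ) : (shiftTo X r).app (op n) = ARSys.shiftMap X r n := rfl

end Tr

section Pointwise

variable [Abelian C]

theorem shortExact_app {S : ShortComplex (ARSys.PS C)} (hS : S.ShortExact) (n : ℕ) :
    (S.map ((evaluation ℕᵒᵖ C).obj (op n))).ShortExact :=
  hS.map_of_exact _

theorem mono_app_f {S : ShortComplex (ARSys.PS C)} (hS : S.ShortExact) (n : ℕ) :
    Mono (S.f.app (op n)) :=
  (shortExact_app hS n).mono_f

theorem epi_app_g {S : ShortComplex (ARSys.PS C)} (hS : S.ShortExact) (n : ℕ) :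
    Epi (S.g.app (op n)) :=
  (shortExact_app hS n).epi_g

theorem app_f_g (S : ShortComplex (ARSys.PS C)) (n : ℕ) :
    S.f.app (op n) ≫ S.g.app (op n) = 0 := by
  rw [← NatTrans.comp_app, S.zero]
  rfl

theorem exists_lift_f {S : ShortComplex (ARSys.PS C)} (hS : S.ShortExact) {n : ℕ} {A : C}
    (x : A ⟶ S.X₂.obj (op n)) (hx : x ≫ S.g.app (op n) = 0) :
    ∃ y : A ⟶ S.X₁.obj (op n), y ≫ S.f.app (op n) = x := by
  haveI : Mono (S.map ((evaluation ℕᵒᵖ C).obj (op n))).f := mono_app_f hS n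
  exact ⟨(shortExact_app hS n).exact.lift x hx, (shortExact_app hS n).exact.lift_f x hx⟩

theorem exists_desc_g {S : ShortComplex (ARSys.PS C)} (hS : S.ShortExact) {n : ℕ} {A : C}
    (x : S.X₂.obj (op n) ⟶ A) (hx : S.f.app (op n) ≫ x = 0) :
    ∃ y : S.X₃.obj (op n) ⟶ A, S.g.app (op n) ≫ y = x := by
  haveI : Epi (S.map ((evaluation ℕᵒᵖ C).obj (op n))).g := epi_app_g hS n
  exact ⟨(shortExact_app hS n).exact.desc x hx, (shortExact_app hS n).exact.g_desc x hx⟩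

variable {X Y : ARSys.PS C} (u : X ⟶ Y)

theorem mono_kernel_ι_app (n : ℕ) : Mono ((kernel.ι u).app (op n)) :=
  inferInstanceAs (Mono (((evaluation ℕᵒᵖ C).obj (op n)).map (kernel.ι u)))

theorem epi_cokernel_π_app (n : ℕ) : Epi ((cokernel.π u).app (op n)) :=
  inferInstanceAs (Epi (((evaluation ℕᵒᵖ C).obj (op n)).map (cokernel.π u)))

theorem kernel_ι_app_comp (n : ℕ) : (kernel.ι u).app (op n) ≫ u.app (op n) = 0 := by
  rw [← NatTrans.comp_app, kernel.condition]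
  rfl

theorem app_comp_cokernel_π (n : ℕ) : u.app (op n) ≫ (cokernel.π u).app (op n) = 0 := by
  rw [← NatTrans.comp_app, cokernel.condition]
  rfl

theorem exists_lift_kernel_ι {n : ℕ} {A : C} (x : A ⟶ X.obj (op n)) (hx : x ≫ u.app (op n) = 0) :
    ∃ y, y ≫ (kernel.ι u).app (op n) = x := by
  let S := (ShortComplex.mk _ _ (kernel.condition u)).map ((evaluation ℕᵒᵖ C).obj (op n))
  have hS : S.Exact :=
    ShortComplex.Exact.map (ShortComplex.exact_of_f_is_kernel _ (kernelIsKernel u)) _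
  haveI : Mono S.f := mono_kernel_ι_app u n
  exact ⟨hS.lift x hx, hS.lift_f x hx⟩

theorem comp_cokernel_π_app_eq_zero_iff {n : ℕ} {A : C} (x : A ⟶ Y.obj (op n)) :
    x ≫ (cokernel.π u).app (op n) = 0 ↔ ImLE x (u.app (op n)) := by
  refine ⟨fun h => ?_, fun h => h.comp_eq_zero _ (app_comp_cokernel_π u n)⟩
  let S := (ShortComplex.mk _ _ (cokernel.condition u)).map ((evaluation ℕᵒᵖ C).obj (op n))
  have hS : S.Exact :=
    ShortComplex.Exact.map (ShortComplex.exact_of_g_is_cokernel _ (cokernelIsCokernel u)) _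
  exact hS.exact_up_to_refinements x h

theorem isARNull_iff_tr {X : ARSys.PS C} :
    ARSys.IsARNull X ↔ ∃ r : ℕ, ∀ n m : ℕ, n + r ≤ m → ∀ h : n ≤ m, ARSys.tr X h = 0 := by
  refine ⟨fun ⟨r, hr⟩ => ⟨r, fun n m hm h => ?_⟩, fun ⟨r, hr⟩ => ⟨r, fun n => hr n _ le_rfl _⟩⟩
  have hn : ARSys.tr X (Nat.le_add_right n r) = 0 := hr n
  rw [← tr_tr X hm (Nat.le_add_right n r), hn, comp_zero]

theorem isARNull_kernel_iff :
    ARSys.IsARNull (kernel u) ↔ ∃ r : ℕ, ∀ (n : ℕ) (A : C) (x : A ⟶ X.obj (op (n + r))),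
      x ≫ u.app (op (n + r)) = 0 → x ≫ ARSys.tr X (Nat.le_add_right n r) = 0 := by
  refine ⟨fun ⟨r, hr⟩ => ⟨r, fun n A x hx => ?_⟩, fun ⟨r, hr⟩ => ⟨r, fun n => ?_⟩⟩
  · obtain ⟨y, rfl⟩ := exists_lift_kernel_ι u x hx
    have hn : ARSys.tr (kernel u) (Nat.le_add_right n r) = 0 := hr n
    rw [Category.assoc, ← tr_naturality, hn, zero_comp, comp_zero]
  · change ARSys.tr (kernel u) (Nat.le_add_right n r) = 0
    haveI := mono_kernel_ι_app u n
    rw [← cancel_mono ((kernel.ι u).app (op n)), zero_comp, tr_naturality]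
    exact hr n _ _ (kernel_ι_app_comp u (n + r))

theorem isARNull_cokernel_iff :
    ARSys.IsARNull (cokernel u) ↔
      ∃ r : ℕ, ∀ n : ℕ, ImLE (ARSys.tr Y (Nat.le_add_right n r)) (u.app (op n)) := by
  refine exists_congr fun r => forall_congr' fun n => ?_
  change ARSys.tr (cokernel u) (Nat.le_add_right n r) = 0 ↔ _
  haveI := epi_cokernel_π_app u (n + r)
  rw [← comp_cokernel_π_app_eq_zero_iff, tr_naturality]
  exact ⟨fun h => by rw [h, comp_zero], fun h => (cancel_epi _).mp (h.trans comp_zero.symm)⟩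

theorem exists_of_ker_coker_null {r₁ r₂ : ℕ}
    (hk : ∀ (n : ℕ) (A : C) (x : A ⟶ X.obj (op (n + r₁))),
      x ≫ u.app (op (n + r₁)) = 0 → x ≫ ARSys.tr X (Nat.le_add_right n r₁) = 0)
    (hc : ∀ n : ℕ, ImLE (ARSys.tr Y (Nat.le_add_right n r₂)) (u.app (op n))) (n : ℕ) :
    ∃ w : Y.obj (op (n + r₁ + r₂)) ⟶ X.obj (op n),
      ∀ (A : C) (z : A ⟶ Y.obj (op (n + r₁ + r₂))) (y : A ⟶ X.obj (op (n + r₁))),
        z ≫ ARSys.tr Y (Nat.le_add_right (n + r₁) r₂) = y ≫ u.app (op (n + r₁)) →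
          z ≫ w = y ≫ ARSys.tr X (Nat.le_add_right n r₁) := by
  obtain ⟨B, ρ, _, y₀, hy₀⟩ := hc (n + r₁)
  have hker : kernel.ι ρ ≫ y₀ ≫ ARSys.tr X (Nat.le_add_right n r₁) = 0 := by
    rw [← Category.assoc]
    refine hk n _ _ ?_
    rw [Category.assoc, ← hy₀, kernel.condition_assoc, zero_comp]
  refine ⟨Abelian.epiDesc ρ _ hker, fun A z y hzy => ?_⟩
  obtain ⟨A', π, _, z', hz'⟩ := surjective_up_to_refinements_of_epi ρ z
  rw [← cancel_epi π]
  have h : (π ≫ y - z' ≫ y₀) ≫ u.app (op (n + r₁)) = 0 := by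
    rw [Preadditive.sub_comp, Category.assoc, Category.assoc, ← hzy, ← hy₀, reassoc_of% hz',
      sub_self]
  have h' := hk n _ _ h
  rw [Preadditive.sub_comp, sub_eq_zero, Category.assoc, Category.assoc] at h'
  rw [reassoc_of% hz', Abelian.comp_epiDesc, h']

/-- An isomorphism up to translation has an inverse up to translation. -/
theorem exists_inverse_of_isARIso (hu : ARSys.IsARIso u) :
    ∃ (R : ℕ) (w : ∀ n : ℕ, Y.obj (op (n + R)) ⟶ X.obj (op n)),
      (∀ n, w n ≫ u.app (op n) = ARSys.tr Y (Nat.le_add_right n R)) ∧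
      (∀ n, u.app (op (n + R)) ≫ w n = ARSys.tr X (Nat.le_add_right n R)) ∧
      (∀ (n m : ℕ) (h : n ≤ m),
        ARSys.tr Y (Nat.add_le_add_right h R) ≫ w n = w m ≫ ARSys.tr X h) := by
  obtain ⟨r₁, hk⟩ := (isARNull_kernel_iff u).mp hu.1
  obtain ⟨r₂, hc⟩ := (isARNull_cokernel_iff u).mp hu.2
  choose w hw using exists_of_ker_coker_null u hk hc
  have key : ∀ (n : ℕ) (A : C) (z : A ⟶ Y.obj (op (n + r₁ + r₂))),
      ∃ (A' : C) (π : A' ⟶ A) (_ : Epi π) (y : A' ⟶ X.obj (op (n + r₁))),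
        π ≫ z ≫ ARSys.tr Y (Nat.le_add_right (n + r₁) r₂) = y ≫ u.app (op (n + r₁)) ∧
        π ≫ z ≫ w n = y ≫ ARSys.tr X (Nat.le_add_right n r₁) := by
    intro n A z
    obtain ⟨A', π, hπ, y, hy⟩ := (hc (n + r₁)).lift z
    refine ⟨A', π, hπ, y, hy, ?_⟩
    rw [← Category.assoc] at hy ⊢
    exact hw n A' _ _ hy
  have hle : ∀ n, n + r₁ + r₂ ≤ n + (r₁ + r₂) := fun n => (Nat.add_assoc n r₁ r₂).le
  refine ⟨r₁ + r₂, fun n => ARSys.tr Y (hle n) ≫ w n, fun n => ?_, fun n => ?_, fun n m h => ?_⟩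
  · obtain ⟨A', π, _, y, hy, hy'⟩ := key n _ (ARSys.tr Y (hle n))
    rw [← cancel_epi π, Category.assoc, reassoc_of% hy', tr_naturality, ← reassoc_of% hy]
    simp
  · rw [← tr_naturality_assoc, ← Category.assoc, hw n _ (ARSys.tr X (hle n) ≫ u.app _)
      (ARSys.tr X (show n + r₁ ≤ n + (r₁ + r₂) by omega))]
    · simp
    · rw [Category.assoc, ← tr_naturality, tr_tr_assoc]
  · rw [tr_tr_assoc, Category.assoc]
    obtain ⟨A', π, _, y, hy, hy'⟩ := key m _ (ARSys.tr Y (hle m))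
    rw [← cancel_epi π, reassoc_of% hy']
    have e := hw n A' (π ≫ ARSys.tr Y (show n + r₁ + r₂ ≤ m + (r₁ + r₂) by omega))
      (y ≫ ARSys.tr X (Nat.add_le_add_right h r₁)) ?_
    · rw [Category.assoc] at e
      rw [e]
      simp
    · rw [Category.assoc, Category.assoc, tr_naturality, ← reassoc_of% hy]
      simp

theorem isARIso_of_inverse (R : ℕ) (w : ∀ n : ℕ, Y.obj (op (n + R)) ⟶ X.obj (op n))
    (h₁ : ∀ n, w n ≫ u.app (op n) = ARSys.tr Y (Nat.le_add_right n R))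
    (h₂ : ∀ n, u.app (op (n + R)) ≫ w n = ARSys.tr X (Nat.le_add_right n R)) :
    ARSys.IsARIso u := by
  refine ⟨(isARNull_kernel_iff u).mpr ⟨R, fun n A x hx => ?_⟩,
    (isARNull_cokernel_iff u).mpr ⟨R, fun n => .of_eq (w n) (h₁ n).symm⟩⟩
  rw [← h₂ n, reassoc_of% hx, zero_comp]

end Pointwise

end Groth.Agent.H3CAlg.ARS
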