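import Groth.Agent.H3CAlg.ARS.Noeth

/-!
# Extensions of systems that are adic up to translation
-/

universe w v u

open CategoryTheory CategoryTheory.Limits Opposite

namespace Groth.Agent.H3CAlg.ARS

variable {C : Type u} [Category.{v} C] [Abelian C] {A : Type w} [CommRing A] [Linear A C]
  {J : Ideal A}

theorem isMLAR_of_isARAdic {X : ARSys.PS C} (h : ARSys.IsARAdic J X) : ARSys.IsMLAR X := by
  obtain ⟨-, Y, u, hY, hu⟩ := h
  exact isMLAR_of_isStrict_of_coker u (isStrict_of_isAdic hY) hu.2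

theorem exact_app {X Y Z : ARSys.PS C} {f : X ⟶ Y} {g : Y ⟶ Z} {w : f ≫ g = 0}
    (h : (ShortComplex.mk f g w).Exact) (n : ℕ) {W : C} (y : W ⟶ Y.obj (op n))
    (hy : y ≫ g.app (op n) = 0) : ImLE y (f.app (op n)) :=
  (h.map ((evaluation ℕᵒᵖ C).obj (op n))).exact_up_to_refinements y hy

theorem app_comp_eq_zero {X Y Z : ARSys.PS C} {f : X ⟶ Y} {g : Y ⟶ Z} (h : f ≫ g = 0) (n : ℕ) :
    f.app (op n) ≫ g.app (op n) = 0 := by
  rw [← NatTrans.comp_app, h]
  rfl

/-- An extension of an adic system by an adic system, up to a null kernel, is adic up to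
translation. -/
theorem isARAdic_of_exact (hJ : J.FG ∨ HasCoproducts.{w} C) {X Y Z : ARSys.PS C} (b : X ⟶ Y)
    (c : Y ⟶ Z) (hc : ∀ n, Epi (c.app (op n))) (wbc : b ≫ c = 0)
    (hbc : (ShortComplex.mk b c wbc).Exact) (r₀ : ℕ)
    (hT : ∀ (n : ℕ) (W : C) (x : W ⟶ X.obj (op (n + r₀))),
      x ≫ b.app (op (n + r₀)) = 0 → x ≫ ARSys.tr X (Nat.le_add_right n r₀) = 0)
    (hX : ARSys.IsAdic J X) (hY : ARSys.TermKilled J Y) (hZ : ARSys.IsAdic J Z) :
    ARSys.IsARAdic J Y := by
  have hstrict : ARSys.IsStrict Y := fun n m h => by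
    rw [epi_iff_imLE, imLE_iff_cokernel, Category.id_comp]
    let π := cokernel.π (ARSys.tr Y h)
    haveI := isStrict_of_isAdic hX n m h
    have h0 : b.app (op n) ≫ π = 0 := by
      rw [← cancel_epi (ARSys.tr X h), tr_naturality_assoc, cokernel.condition, comp_zero,
        comp_zero]
    haveI : Epi (ShortComplex.mk (b.app (op n)) (c.app (op n)) (app_comp_eq_zero wbc n)).g := hc n
    have hex : (ShortComplex.mk (b.app (op n)) (c.app (op n)) (app_comp_eq_zero wbc n)).Exact :=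
      hbc.map ((evaluation ℕᵒᵖ C).obj (op n))
    obtain ⟨φ, hφ⟩ : ∃ φ, c.app (op n) ≫ φ = π := ⟨hex.desc π h0, hex.g_desc π h0⟩
    haveI := isStrict_of_isAdic hZ n m h
    haveI := hc m
    change π = 0
    have : (c.app (op m) ≫ ARSys.tr Z h) ≫ φ = (c.app (op m) ≫ ARSys.tr Z h) ≫ 0 := by
      rw [comp_zero, Category.assoc, ← tr_naturality_assoc, hφ, cokernel.condition]
    rw [cancel_epi] at this
    rw [← hφ, this, comp_zero]
  refine isARAdic_of_fker hJ hstrict hY (r := r₀ + 1) fun q Z' φ hφ => ?_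
  by_cases hq : q ≤ r₀ + 1
  · rw [Nat.sub_eq_zero_of_le hq, pow_zero, Ideal.one_eq_top] at hφ
    rw [eq_zero_of_homKilledBy_top hφ, comp_zero]
  obtain ⟨d, rfl⟩ : ∃ d, q = d + r₀ + 2 := ⟨q - (r₀ + 2), by omega⟩
  rw [show d + r₀ + 2 - (r₀ + 1) = d + 1 by omega] at hφ
  let p := d + r₀ + 1
  let y := (ARSys.Fker Y (p + 1)).arrow
  have hy : y ≫ ARSys.tr Y (Nat.le_succ p) = 0 := kernelSubobject_arrow_comp _
  let l := biprod.lift (ARSys.tr Y (Nat.le_succ p)) φ
  have hl : ARSys.HomKilledBy (J ^ (p + 1)) l := by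
    intro a ha
    refine biprod.hom_ext _ _ ?_ ?_
    · rw [Linear.smul_comp, biprod.lift_fst, zero_comp]
      exact homKilledBy_of_target (hY p) _ a ha
    · rw [Linear.smul_comp, biprod.lift_snd, zero_comp]
      exact hφ a (Ideal.pow_le_pow_right (show d + 1 ≤ p + 1 by omega) ha)
  let π := cokernel.π (b.app (op (p + 1)) ≫ l)
  haveI : Epi (ShortComplex.mk (b.app (op (p + 1))) (c.app (op (p + 1)))
    (app_comp_eq_zero wbc (p + 1))).g := hc (p + 1)
  have hex : (ShortComplex.mk (b.app (op (p + 1))) (c.app (op (p + 1)))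
    (app_comp_eq_zero wbc (p + 1))).Exact := hbc.map ((evaluation ℕᵒᵖ C).obj (op (p + 1)))
  obtain ⟨χ, hχ⟩ : ∃ χ, c.app (op (p + 1)) ≫ χ = l ≫ π :=
    have h : b.app (op (p + 1)) ≫ l ≫ π = 0 := by rw [← Category.assoc, cokernel.condition]
    ⟨hex.desc (l ≫ π) h, hex.g_desc (l ≫ π) h⟩
  haveI := hc (p + 1)
  obtain ⟨χ', rfl⟩ := isQuot_desc (hZ.2 p (p + 1) (Nat.le_succ p))
    (homKilledBy_of_epi (c.app (op (p + 1))) (hχ ▸ homKilledBy_comp hl π))
  have h0 : (y ≫ l) ≫ π = 0 := by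
    rw [Category.assoc, ← hχ, ← tr_naturality_assoc, reassoc_of% hy, zero_comp]
  obtain ⟨W, ρ, _, x, hx⟩ :=
    ((imLE_iff_cokernel _ _).mpr h0 : ImLE (y ≫ l) (b.app (op (p + 1)) ≫ l))
  have e₁ := hx =≫ biprod.fst
  have e₂ := hx =≫ biprod.snd
  simp only [l, Category.assoc, biprod.lift_fst, biprod.lift_snd, hy, comp_zero] at e₁ e₂
  rw [← tr_naturality, ← Category.assoc] at e₁
  have e₃ : x ≫ ARSys.tr X (show d ≤ p + 1 by omega) = 0 := by
    have h := hT (p - r₀) W (x ≫ ARSys.tr X (show p - r₀ + r₀ ≤ p + 1 by omega)) (by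
      have e₄ := e₁.symm =≫ ARSys.tr Y (show p - r₀ + r₀ ≤ p by omega)
      simp only [Category.assoc, zero_comp, ← tr_naturality, tr_tr_assoc] at e₄ ⊢
      exact e₄)
    rw [Category.assoc, tr_tr] at h
    rw [← tr_tr X (show p - r₀ ≤ p + 1 by omega) (show d ≤ p - r₀ by omega), ← Category.assoc, h,
      zero_comp]
  obtain ⟨ψ, hψ⟩ := isQuot_desc (hX.2 d (p + 1) (by omega))
    (homKilledBy_comp' (b.app (op (p + 1))) hφ)
  rw [← hψ, ← Category.assoc x, e₃, zero_comp, ← comp_zero (f := ρ), cancel_epi] at e₂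
  exact e₂

theorem isARAdic_middle (hJ : J.FG ∨ HasCoproducts.{w} C) {S : ShortComplex (ARSys.PS C)}
    (hS : S.ShortExact) (k₂ : ARSys.TermKilled J S.X₂) (h₁ : ARSys.IsARAdic J S.X₁)
    (h₃ : ARSys.IsARAdic J S.X₃) : ARSys.IsARAdic J S.X₂ := by
  obtain ⟨-, X, v, hX, hv⟩ := h₁
  obtain ⟨-, Z, u, hZ, hu⟩ := h₃
  haveI := hS.epi_g
  haveI := hS.mono_f
  let P := pullback S.g u
  let p₁ : P ⟶ S.X₂ := pullback.fst S.g u
  let p₂ : P ⟶ Z := pullback.snd S.g u
  haveI : Epi p₂ := inferInstanceAs (Epi (pullback.snd S.g u))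
  obtain ⟨R, w, hw₁, hw₂, hw₃⟩ := exists_inverse_of_isARIso u hu
  -- lifting elements to the fibre product
  have liftP : ∀ {n : ℕ} {W : C} (x : W ⟶ S.X₂.obj (op n)) (z : W ⟶ Z.obj (op n)),
      x ≫ S.g.app (op n) = z ≫ u.app (op n) →
        ∃ t : W ⟶ P.obj (op n), t ≫ p₁.app (op n) = x ∧ t ≫ p₂.app (op n) = z := by
    intro n W x z h
    have hp := (IsPullback.of_hasPullback S.g u).map ((evaluation ℕᵒᵖ C).obj (op n))
    exact ⟨hp.lift x z h, hp.lift_fst x z h, hp.lift_snd x z h⟩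
  have extP : ∀ {n : ℕ} {W : C} (s t : W ⟶ P.obj (op n)),
      s ≫ p₁.app (op n) = t ≫ p₁.app (op n) → s ≫ p₂.app (op n) = t ≫ p₂.app (op n) → s = t :=
    fun {n} {W} s t h h' =>
      ((IsPullback.of_hasPullback S.g u).map ((evaluation ℕᵒᵖ C).obj (op n))).hom_ext h h'
  have sq : ∀ n, p₁.app (op n) ≫ S.g.app (op n) = p₂.app (op n) ≫ u.app (op n) := fun n =>
    NatTrans.congr_app pullback.condition (op n)
  have hp₁ : ARSys.IsARIso p₁ := by
    choose t ht₁ ht₂ using fun n => liftP (ARSys.tr S.X₂ (Nat.le_add_right n R))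
      (S.g.app (op (n + R)) ≫ w n) (by rw [Category.assoc, hw₁, tr_naturality])
    refine isARIso_of_inverse p₁ R t ht₁ fun n => extP _ _ ?_ ?_
    · rw [Category.assoc, ht₁, tr_naturality]
    · rw [Category.assoc, ht₂, reassoc_of% sq, hw₂, tr_naturality]
  have kP : ARSys.TermKilled J P := fun n a ha => extP _ _
    (by rw [Linear.smul_comp, Category.id_comp, zero_comp]
        exact homKilledBy_of_target (k₂ n) _ a ha)
    (by rw [Linear.smul_comp, Category.id_comp, zero_comp]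
        exact homKilledBy_of_target (hZ.1 n) _ a ha)
  -- the image of the adic system `X`
  let b₀ : X ⟶ P := pullback.lift (v ≫ S.f) 0 (by rw [Category.assoc, S.zero, comp_zero, zero_comp])
  have hb₁ : ∀ n, b₀.app (op n) ≫ p₁.app (op n) = v.app (op n) ≫ S.f.app (op n) := fun n =>
    NatTrans.congr_app (pullback.lift_fst (f := S.g) (g := u) _ _ _) (op n)
  have hb₂ : b₀ ≫ p₂ = 0 := pullback.lift_snd _ _ _
  let Q := cokernel b₀
  let q : P ⟶ Q := cokernel.π b₀
  let π' : Q ⟶ Z := cokernel.desc b₀ p₂ hb₂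
  have hqπ : ∀ n, q.app (op n) ≫ π'.app (op n) = p₂.app (op n) := fun n =>
    NatTrans.congr_app (cokernel.π_desc b₀ p₂ hb₂) (op n)
  have hπ' : ARSys.IsARIso π' := by
    refine ⟨?_, ?_⟩
    · obtain ⟨r, hr⟩ := (isARNull_cokernel_iff v).mp hv.2
      refine (isARNull_kernel_iff π').mpr ⟨r, fun n W y hy => ?_⟩
      haveI : Epi (q.app (op (n + r))) := epi_cokernel_π_app b₀ (n + r)
      obtain ⟨W', ρ, _, t, ht⟩ := surjective_up_to_refinements_of_epi (q.app (op (n + r))) y
      have ht₂ : t ≫ p₂.app (op (n + r)) = 0 := by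
        rw [← hqπ, ← reassoc_of% ht, hy, comp_zero]
      obtain ⟨x, hx⟩ := exists_lift_f hS (t ≫ p₁.app (op (n + r)))
        (by rw [Category.assoc, sq, reassoc_of% ht₂, zero_comp])
      obtain ⟨W'', ρ', _, x', hx'⟩ := (hr n).lift x
      have e : ρ' ≫ t ≫ ARSys.tr P (Nat.le_add_right n r) = x' ≫ b₀.app (op n) := by
        refine extP _ _ ?_ ?_
        · simp only [Category.assoc, hb₁, tr_naturality, ← reassoc_of% hx, ← reassoc_of% hx']
        · rw [Category.assoc, Category.assoc, tr_naturality, reassoc_of% ht₂, zero_comp,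
            comp_zero, Category.assoc, app_comp_eq_zero hb₂, comp_zero]
      rw [← cancel_epi ρ, ← cancel_epi ρ', comp_zero, comp_zero, reassoc_of% ht,
        ← tr_naturality, reassoc_of% e, app_comp_cokernel_π, comp_zero]
    · refine (isARNull_cokernel_iff π').mpr ⟨0, fun n => ?_⟩
      haveI : Epi (p₂.app (op n)) :=
        inferInstanceAs (Epi (((evaluation ℕᵒᵖ C).obj (op n)).map p₂))
      refine .trans (.of_eq (ARSys.tr Z (Nat.le_add_right n 0)) (Category.comp_id _).symm) ?_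
      refine .of_epi (p₂.app (op n)) ?_
      rw [Category.comp_id, ← hqπ]
      exact .of_eq _ rfl
  -- a section over the adic system `Z`
  obtain ⟨R', w', hw'₁, hw'₂, hw'₃⟩ := exists_inverse_of_isARIso π' hπ'
  obtain ⟨s, hs, -⟩ := existsUnique_desc hZ
    (termKilled_of_epi q (epi_cokernel_π_app b₀) kP) w' hw'₃
  have hsπ : s ≫ π' = 𝟙 Z := ps_hom_ext fun n => by
    haveI := isStrict_of_isAdic hZ n (n + R') (Nat.le_add_right n R')
    rw [← cancel_epi (ARSys.tr Z (Nat.le_add_right n R')), NatTrans.comp_app,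
      ← reassoc_of% hs n, hw'₁]
    exact (Category.comp_id _).symm
  have hsAR : ARSys.IsARIso s := isARIso_of_comp_right hπ' (hsπ ▸ isARIso_id Z)
  -- the preimage of the section
  let Y := pullback q s
  let i : Y ⟶ P := pullback.fst q s
  let c : Y ⟶ Z := pullback.snd q s
  haveI : Epi c := inferInstanceAs (Epi (pullback.snd q s))
  have extY : ∀ {n : ℕ} {W : C} (t t' : W ⟶ Y.obj (op n)),
      t ≫ i.app (op n) = t' ≫ i.app (op n) → t ≫ c.app (op n) = t' ≫ c.app (op n) → t = t' :=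
    fun {n} {W} t t' h h' =>
      ((IsPullback.of_hasPullback q s).map ((evaluation ℕᵒᵖ C).obj (op n))).hom_ext h h'
  have sqY : ∀ n, i.app (op n) ≫ q.app (op n) = c.app (op n) ≫ s.app (op n) := fun n =>
    NatTrans.congr_app pullback.condition (op n)
  let b : X ⟶ Y := pullback.lift b₀ 0 (by rw [cokernel.condition, zero_comp])
  have hbi : ∀ n, b.app (op n) ≫ i.app (op n) = b₀.app (op n) := fun n =>
    NatTrans.congr_app (pullback.lift_fst (f := q) (g := s) _ _ _) (op n)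
  have hbc : b ≫ c = 0 := pullback.lift_snd _ _ _
  have hex : (ShortComplex.mk b c hbc).Exact := by
    let S₁ := ShortComplex.mk b₀ q (cokernel.condition b₀)
    have h₁ := S₁.exact_of_g_is_cokernel (cokernelIsCokernel b₀)
    rw [ShortComplex.exact_iff_exact_up_to_refinements] at h₁ ⊢
    intro W t ht
    change t ≫ c = 0 at ht
    obtain ⟨W', ρ, hρ, x, hx⟩ := h₁ (t ≫ i) (by
      change (t ≫ i) ≫ q = 0
      rw [Category.assoc, pullback.condition, reassoc_of% ht, zero_comp])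
    change ρ ≫ t ≫ i = x ≫ b₀ at hx
    exact ⟨W', ρ, hρ, x, pullback.hom_ext
      (by simp only [Category.assoc, b, pullback.lift_fst]; exact hx)
      (by simp only [Category.assoc, b, pullback.lift_snd]; rw [ht, comp_zero, comp_zero])⟩
  have hi : ARSys.IsARIso i := by
    obtain ⟨R'', ws, hws₁, hws₂, hws₃⟩ := exists_inverse_of_isARIso s hsAR
    have hp := fun n => (IsPullback.of_hasPullback q s).map ((evaluation ℕᵒᵖ C).obj (op n))
    choose t ht₁ ht₂ using fun n => show ∃ t : P.obj (op (n + R'')) ⟶ Y.obj (op n),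
        t ≫ i.app (op n) = ARSys.tr P (Nat.le_add_right n R'') ∧
          t ≫ c.app (op n) = q.app (op (n + R'')) ≫ ws n from
      have e : ARSys.tr P (Nat.le_add_right n R'') ≫ q.app (op n) =
          (q.app (op (n + R'')) ≫ ws n) ≫ s.app (op n) := by
        rw [Category.assoc, hws₁, tr_naturality]
      ⟨(hp n).lift _ _ e, (hp n).lift_fst _ _ e, (hp n).lift_snd _ _ e⟩
    refine isARIso_of_inverse i R'' t ht₁ fun n => extY _ _ ?_ ?_
    · rw [Category.assoc, ht₁, tr_naturality]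
    · rw [Category.assoc, ht₂, reassoc_of% sqY, hws₂, tr_naturality]
  have kY : ARSys.TermKilled J Y := fun n a ha => extY _ _
    (by rw [Linear.smul_comp, Category.id_comp, zero_comp]
        exact homKilledBy_of_target (kP n) _ a ha)
    (by rw [Linear.smul_comp, Category.id_comp, zero_comp]
        exact homKilledBy_of_target (hZ.1 n) _ a ha)
  obtain ⟨r₀, hr₀⟩ := (isARNull_kernel_iff v).mp hv.1
  obtain ⟨-, Y', uY, hY', huY⟩ := isARAdic_of_exact hJ b c
    (fun n => inferInstanceAs (Epi (((evaluation ℕᵒᵖ C).obj (op n)).map c))) hbc hex r₀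
    (fun n W x hx => hr₀ n W x (by
      haveI := mono_app_f hS (n + r₀)
      rw [← cancel_mono (S.f.app (op (n + r₀))), zero_comp, Category.assoc, ← hb₁,
        ← reassoc_of% hbi, reassoc_of% hx, zero_comp]))
    hX kY hZ
  exact ⟨k₂, Y', uY ≫ i ≫ p₁, hY', isARIso_comp huY (isARIso_comp hi hp₁)⟩

end Groth.Agent.H3CAlg.ARS
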