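import Groth.Agent.H3CAlg.ARS.Basic

/-!
# Uniform Mittag-Leffler systems and strict systems
-/

universe w v u

open CategoryTheory CategoryTheory.Limits Opposite

namespace Groth.Agent.H3CAlg.ARS

variable {C : Type u} [Category.{v} C] [Abelian C]

/-- The uniform Mittag-Leffler condition with arbitrary targets. -/
theorem isMLAR_iff (X : ARSys.PS C) :
    ARSys.IsMLAR X ↔ ∃ r : ℕ, ∀ (n m : ℕ) (h : n ≤ m),
      ImLE (ARSys.tr X (Nat.le_add_right n r)) (ARSys.tr X h) := by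
  refine exists_congr fun r => ⟨fun H n m h => ?_, fun H s hs n => ?_⟩
  · have e : imageSubobject (ARSys.tr X (Nat.le_add_right n (r + (m - n)))) =
        imageSubobject (ARSys.tr X (Nat.le_add_right n r)) := H _ (Nat.le_add_right _ _) n
    refine ((imageSubobject_eq_iff _ _).mp e).2.trans (.of_eq (ARSys.tr X (n := m) ?_) (tr_tr X _ _).symm)
    omega
  · change imageSubobject (ARSys.tr X (Nat.le_add_right n s)) =
      imageSubobject (ARSys.tr X (Nat.le_add_right n r))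
    refine (imageSubobject_eq_iff _ _).mpr ⟨?_, H n _ _⟩
    exact .of_eq (ARSys.tr X (Nat.add_le_add_left hs n)) (tr_tr X _ _).symm

theorem isStrict_iff (X : ARSys.PS C) :
    ARSys.IsStrict X ↔ ∀ (n m : ℕ) (h : n ≤ m), ImLE (𝟙 _) (ARSys.tr X h) :=
  forall_congr' fun _ => forall_congr' fun _ => forall_congr' fun _ => epi_iff_imLE _

theorem imLE_app_tr_of_isStrict {X Y : ARSys.PS C} (u : Y ⟶ X) (hY : ARSys.IsStrict Y)
    {n m : ℕ} (h : n ≤ m) : ImLE (u.app (op n)) (ARSys.tr X h) := by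
  haveI := hY n m h
  refine .of_epi (ARSys.tr Y h) ?_
  rw [tr_naturality]
  exact .of_eq _ rfl

theorem image_eq_of_isStrict {X Y : ARSys.PS C} (u : Y ⟶ X) (hY : ARSys.IsStrict Y)
    (hu : ARSys.IsARNull (cokernel u)) :
    ∃ r : ℕ, ∀ s : ℕ, r ≤ s → ∀ n : ℕ,
      imageSubobject (ARSys.shiftMap X s n) = imageSubobject (u.app (op n)) := by
  obtain ⟨r, hr⟩ := (isARNull_cokernel_iff u).mp hu
  refine ⟨r, fun s hs n => (imageSubobject_eq_iff _ _).mpr
    ⟨?_, imLE_app_tr_of_isStrict u hY (Nat.le_add_right n s)⟩⟩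
  change ImLE (ARSys.tr X (Nat.le_add_right n s)) _
  refine ImLE.trans ?_ (hr n)
  exact .of_eq (ARSys.tr X (Nat.add_le_add_left hs n)) (tr_tr X _ _).symm

theorem isMLAR_of_isStrict_of_coker {X Y : ARSys.PS C} (u : Y ⟶ X) (hY : ARSys.IsStrict Y)
    (hu : ARSys.IsARNull (cokernel u)) : ARSys.IsMLAR X := by
  obtain ⟨r, hr⟩ := image_eq_of_isStrict u hY hu
  exact ⟨r, fun s hs n => (hr s hs n).trans (hr r le_rfl n).symm⟩

/-- The system of universal images of a uniform Mittag-Leffler system. -/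
theorem exists_strict_sub {X : ARSys.PS C} (hX : ARSys.IsMLAR X) :
    ∃ (Y : ARSys.PS C) (u : Y ⟶ X), ARSys.IsStrict Y ∧ Mono u ∧ ARSys.IsARIso u := by
  obtain ⟨r, hr⟩ := (isMLAR_iff X).mp hX
  let s := shiftTo X r
  let p := Abelian.factorThruImage s
  let ι := Abelian.image.ι s
  have hpι : ∀ n, p.app (op n) ≫ ι.app (op n) = ARSys.tr X (Nat.le_add_right n r) := fun n =>
    NatTrans.congr_app (Abelian.image.fac s) (op n)
  haveI : ∀ n, Mono (ι.app (op n)) := fun n =>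
    inferInstanceAs (Mono (((evaluation ℕᵒᵖ C).obj (op n)).map (Abelian.image.ι s)))
  haveI : ∀ n, Epi (p.app (op n)) := fun n =>
    inferInstanceAs (Epi (((evaluation ℕᵒᵖ C).obj (op n)).map (Abelian.factorThruImage s)))
  refine ⟨Abelian.image s, ι, (isStrict_iff _).mpr fun n m h => ?_, inferInstance, ?_, ?_⟩
  · refine .of_comp_mono (ι.app (op n)) ?_
    refine .of_epi (p.app (op n)) ?_
    rw [Category.id_comp, hpι, tr_naturality]
    refine (hr n (m + r) (by omega)).trans ?_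
    refine .of_eq (p.app (op m)) ?_
    refine (Eq.trans ?_ (Category.assoc _ _ _))
    exact (tr_tr X (Nat.le_add_right m r) h).symm.trans
      (congrArg (fun f => f ≫ ARSys.tr X h) (hpι m).symm)
  · refine (isARNull_kernel_iff ι).mpr ⟨0, fun n A x hx => ?_⟩
    rw [show x = 0 from (cancel_mono (ι.app (op (n + 0)))).mp (hx.trans zero_comp.symm), zero_comp]
  · exact (isARNull_cokernel_iff ι).mpr ⟨r, fun n => .of_eq (p.app (op n)) (hpι n).symm⟩

theorem isMLAR_iff_exists_strict {X : ARSys.PS C} :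
    ARSys.IsMLAR X ↔ ∃ (Y : ARSys.PS C) (u : Y ⟶ X), ARSys.IsStrict Y ∧ ARSys.IsARIso u :=
  ⟨fun h => let ⟨Y, u, h₁, _, h₂⟩ := exists_strict_sub h; ⟨Y, u, h₁, h₂⟩,
    fun ⟨_, u, h₁, h₂⟩ => isMLAR_of_isStrict_of_coker u h₁ h₂.2⟩

theorem isMLAR_of_epi {X Y : ARSys.PS C} (g : X ⟶ Y) (hg : ∀ n, Epi (g.app (op n)))
    (hX : ARSys.IsMLAR X) : ARSys.IsMLAR Y := by
  obtain ⟨r, hr⟩ := (isMLAR_iff X).mp hX
  refine (isMLAR_iff Y).mpr ⟨r, fun n m h => ?_⟩
  haveI := hg (n + r)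
  refine .of_epi (g.app (op (n + r))) ?_
  rw [← tr_naturality]
  refine ((hr n m h).comp (g.app (op n))).trans ?_
  rw [tr_naturality]
  exact .of_eq _ rfl

theorem isMLAR_middle {S : ShortComplex (ARSys.PS C)} (hS : S.ShortExact)
    (h₁ : ARSys.IsMLAR S.X₁) (h₃ : ARSys.IsMLAR S.X₃) : ARSys.IsMLAR S.X₂ := by
  obtain ⟨r₁, h₁⟩ := (isMLAR_iff _).mp h₁
  obtain ⟨r₃, h₃⟩ := (isMLAR_iff _).mp h₃
  refine (isMLAR_iff _).mpr ⟨r₁ + r₃, fun n m h => ?_⟩
  let k := n + r₁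
  let M := max m k
  have hk : k ≤ M := le_max_right _ _
  have hm : m ≤ M := le_max_left _ _
  refine ImLE.trans (g := ARSys.tr S.X₂ (h.trans hm)) ?_
    (.of_eq (ARSys.tr S.X₂ hm) (tr_tr _ _ _).symm)
  obtain ⟨A, π, _, z, hz⟩ := (h₃ k M hk).lift
    (S.g.app (op (k + r₃)))
  haveI := epi_app_g hS M
  obtain ⟨B, ρ, _, y, hy⟩ := surjective_up_to_refinements_of_epi (S.g.app (op M)) z
  let d := ρ ≫ π ≫ ARSys.tr S.X₂ (Nat.le_add_right k r₃) - y ≫ ARSys.tr S.X₂ hk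
  have hd : d ≫ S.g.app (op k) = 0 := by
    simp only [d, Preadditive.sub_comp, Category.assoc, tr_naturality]
    rw [hz, reassoc_of% hy, sub_self]
  obtain ⟨v, hv⟩ := exists_lift_f hS d hd
  obtain ⟨D, τ, _, t, ht⟩ := (h₁ n M (h.trans hm)).lift v
  have main : ImLE (ARSys.tr S.X₂ (show n ≤ k + r₃ by omega)) (ARSys.tr S.X₂ (h.trans hm)) := by
    refine ⟨D, τ ≫ ρ ≫ π, inferInstance, τ ≫ y + t ≫ S.f.app (op M), ?_⟩
    have e : ρ ≫ π ≫ ARSys.tr S.X₂ (Nat.le_add_right k r₃) =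
        y ≫ ARSys.tr S.X₂ hk + v ≫ S.f.app (op k) := by
      rw [hv]
      simp only [d, add_sub_cancel]
    have e' : (ρ ≫ π ≫ ARSys.tr S.X₂ (Nat.le_add_right k r₃)) ≫
        ARSys.tr S.X₂ (Nat.le_add_right n r₁) =
        (y ≫ ARSys.tr S.X₂ hk + v ≫ S.f.app (op k)) ≫ ARSys.tr S.X₂ (Nat.le_add_right n r₁) := by
      rw [e]
    simp only [Category.assoc, tr_tr, Preadditive.add_comp, ← tr_naturality] at e' ⊢
    rw [e', Preadditive.comp_add, reassoc_of% ht]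
  have := main.precomp (ARSys.tr S.X₂ (show k + r₃ ≤ n + (r₁ + r₃) by omega))
  rwa [tr_tr] at this

end Groth.Agent.H3CAlg.ARS
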