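import Groth.Agent.H3CAlg.ARS.Basic
import Mathlib.CategoryTheory.Subobject.Lattice
import Mathlib.CategoryTheory.Subobject.NoetherianObject
import Mathlib.CategoryTheory.Subobject.ArtinianObject

/-!
# Membership calculus for subobjects in abelian categories, Noetherian and Artinian objects
-/

universe w v u

open CategoryTheory CategoryTheory.Limits Opposite

namespace Groth.Agent.H3CAlg.ARS

variable {C : Type u} [Category.{v} C] [Abelian C] {X Y : C} {S T : Subobject X}

theorem mem_iff_imLE {W : C} {x : W ⟶ X} : S.Factors x ↔ ImLE x S.arrow := by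
  refine ⟨fun h => .of_eq (S.factorThru x h) (S.factorThru_arrow x h).symm, fun h => ?_⟩
  have h0 := h.comp_eq_zero _ (cokernel.condition S.arrow)
  exact (Subobject.factors_iff _ _).mpr
    ⟨Abelian.monoLift S.arrow x h0, Abelian.monoLift_comp S.arrow x h0⟩

theorem mem_iff_comp_eq_zero {W : C} {x : W ⟶ X} :
    S.Factors x ↔ x ≫ cokernel.π S.arrow = 0 := by
  rw [mem_iff_imLE, imLE_iff_cokernel]

theorem mem_of_epi {W W' : C} (π : W' ⟶ W) [Epi π] {x : W ⟶ X} (h : S.Factors (π ≫ x)) :
    S.Factors x :=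
  mem_iff_imLE.mpr (ImLE.of_epi π (mem_iff_imLE.mp h))

theorem mem_precomp {W W' : C} (k : W' ⟶ W) {x : W ⟶ X} (h : S.Factors x) :
    S.Factors (k ≫ x) :=
  Subobject.factors_of_factors_right k h

theorem mem_zero {W : C} : S.Factors (0 : W ⟶ X) :=
  mem_iff_comp_eq_zero.mpr zero_comp

theorem mem_add {W : C} {x y : W ⟶ X} (hx : S.Factors x) (hy : S.Factors y) :
    S.Factors (x + y) := by
  rw [mem_iff_comp_eq_zero] at *
  rw [Preadditive.add_comp, hx, hy, add_zero]

theorem mem_sub {W : C} {x y : W ⟶ X} (hx : S.Factors x) (hy : S.Factors y) :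
    S.Factors (x - y) := by
  rw [mem_iff_comp_eq_zero] at *
  rw [Preadditive.sub_comp, hx, hy, sub_zero]

theorem mem_arrow : S.Factors S.arrow := Subobject.factors_self S

theorem mem_of_le (h : S ≤ T) {W : C} {x : W ⟶ X} (hx : S.Factors x) : T.Factors x :=
  Subobject.factors_of_le _ h hx

theorem le_of_mem (h : ∀ (W : C) (x : W ⟶ X), S.Factors x → T.Factors x) : S ≤ T :=
  Subobject.le_of_comm (T.factorThru _ (h _ _ mem_arrow)) (Subobject.factorThru_arrow _ _ _)

theorem eq_of_mem (h : ∀ (W : C) (x : W ⟶ X), S.Factors x ↔ T.Factors x) : S = T :=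
  le_antisymm (le_of_mem fun W x => (h W x).mp) (le_of_mem fun W x => (h W x).mpr)

theorem mem_image_iff {Z W : C} {f : Z ⟶ X} {x : W ⟶ X} :
    (imageSubobject f).Factors x ↔ ImLE x f := by
  rw [mem_iff_imLE]
  refine ⟨fun h => h.trans (.of_epi (factorThruImageSubobject f) ?_),
    fun h => h.trans (.of_eq _ (imageSubobject_arrow_comp f).symm)⟩
  rw [imageSubobject_arrow_comp]
  exact .refl f

theorem mem_image_self {Z W : C} (f : Z ⟶ X) (y : W ⟶ Z) : (imageSubobject f).Factors (y ≫ f) :=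
  mem_image_iff.mpr (.of_eq y rfl)

theorem mem_pullback_iff {U : Subobject Y} {f : X ⟶ Y} {W : C} {x : W ⟶ X} :
    ((Subobject.pullback f).obj U).Factors x ↔ U.Factors (x ≫ f) :=
  pullback_factors_iff f U x

theorem mem_kernel_iff {f : X ⟶ Y} {W : C} {x : W ⟶ X} :
    (kernelSubobject f).Factors x ↔ x ≫ f = 0 :=
  kernelSubobject_factors_iff f x

theorem mem_sup_iff {W : C} {x : W ⟶ X} :
    (S ⊔ T).Factors x ↔ ∃ (W' : C) (π : W' ⟶ W) (_ : Epi π) (s t : W' ⟶ X),
      S.Factors s ∧ T.Factors t ∧ π ≫ x = s + t := by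
  constructor
  · intro h
    have hle : S ⊔ T ≤ imageSubobject (biprod.desc S.arrow T.arrow) := sup_le
      (Subobject.le_of_comm (biprod.inl ≫ factorThruImageSubobject _) (by simp))
      (Subobject.le_of_comm (biprod.inr ≫ factorThruImageSubobject _) (by simp))
    obtain ⟨W', π, hπ, y, hy⟩ := mem_image_iff.mp (mem_of_le hle h)
    refine ⟨W', π, hπ, (y ≫ biprod.fst) ≫ S.arrow, (y ≫ biprod.snd) ≫ T.arrow,
      mem_precomp _ mem_arrow, mem_precomp _ mem_arrow, ?_⟩
    rw [hy, biprod.desc_eq, Preadditive.comp_add, Category.assoc, Category.assoc]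
  · rintro ⟨W', π, _, s, t, hs, ht, e⟩
    exact mem_of_epi π (e ▸ mem_add (Subobject.sup_factors_of_factors_left hs)
      (Subobject.sup_factors_of_factors_right ht))

/-- A subobject of the middle term is determined by its trace and its image. -/
theorem eq_of_pullback_eq_of_image_eq {S : ShortComplex C} (hS : S.Exact)
    {P Q : Subobject S.X₂} (hle : P ≤ Q)
    (h₁ : (Subobject.pullback S.f).obj Q ≤ (Subobject.pullback S.f).obj P)
    (h₂ : imageSubobject (Q.arrow ≫ S.g) ≤ imageSubobject (P.arrow ≫ S.g)) : P = Q := by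
  refine le_antisymm hle (le_of_mem fun W x hx => ?_)
  obtain ⟨W₁, π₁, _, y, hy⟩ := mem_image_iff.mp (mem_of_le h₂
    (mem_image_self (Q.arrow ≫ S.g) (Q.factorThru x hx)))
  rw [Subobject.factorThru_arrow_assoc] at hy
  obtain ⟨W₂, π₂, _, z, hz⟩ := hS.exact_up_to_refinements (π₁ ≫ x - y ≫ P.arrow)
    (by rw [Preadditive.sub_comp, Category.assoc, Category.assoc, hy, sub_self])
  have hP : P.Factors (y ≫ P.arrow) := mem_precomp _ mem_arrow
  have hzQ : Q.Factors (z ≫ S.f) := by
    rw [← hz]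
    exact mem_precomp _ (mem_sub (mem_precomp _ hx) (mem_of_le hle hP))
  have hzP := mem_pullback_iff.mp (mem_of_le h₁ (mem_pullback_iff.mpr hzQ))
  refine mem_of_epi π₁ (mem_of_epi π₂ ?_)
  have e : π₂ ≫ π₁ ≫ x = z ≫ S.f + π₂ ≫ y ≫ P.arrow := by
    rw [← hz, Preadditive.comp_sub, sub_add_cancel]
  rw [e]
  exact mem_add hzP (mem_precomp _ hP)

theorem image_arrow_mono {f : X ⟶ Y} (h : S ≤ T) :
    imageSubobject (S.arrow ≫ f) ≤ imageSubobject (T.arrow ≫ f) :=
  (imageSubobject_le_iff _ _).mpr (.of_eq (Subobject.ofLE S T h) (by simp))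

theorem pullback_injective (p : X ⟶ Y) [Epi p] {P Q : Subobject Y}
    (h : (Subobject.pullback p).obj P ≤ (Subobject.pullback p).obj Q) : P ≤ Q := by
  refine le_of_mem fun W x hx => ?_
  obtain ⟨W', π, _, y, hy⟩ := surjective_up_to_refinements_of_epi p x
  refine mem_of_epi π ?_
  rw [hy]
  exact mem_pullback_iff.mp (mem_of_le h (mem_pullback_iff.mpr (hy ▸ mem_precomp π hx)))

theorem isNoetherianObject_of_epi (p : X ⟶ Y) [Epi p] [IsNoetherianObject X] :
    IsNoetherianObject Y := by
  rw [isNoetherianObject_iff_monotone_chain_condition]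
  intro f
  obtain ⟨n, hn⟩ := monotone_chain_condition_of_isNoetherianObject
    ⟨_, (Subobject.pullback p).monotone.comp f.2⟩
  exact ⟨n, fun m hm => le_antisymm (f.2 hm) (pullback_injective p (hn m hm).ge)⟩

theorem isArtinianObject_of_epi (p : X ⟶ Y) [Epi p] [IsArtinianObject X] :
    IsArtinianObject Y := by
  rw [isArtinianObject_iff_antitone_chain_condition]
  intro f
  obtain ⟨n, hn⟩ := antitone_chain_condition_of_isArtinianObject
    (⟨fun i => OrderDual.toDual ((Subobject.pullback p).obj (OrderDual.ofDual (f i))),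
      fun i j h => (Subobject.pullback p).monotone (OrderDual.ofDual_le_ofDual.mpr (f.2 h))⟩ :
      ℕ →o (Subobject X)ᵒᵈ)
  refine ⟨n, fun m hm => OrderDual.ofDual.injective (le_antisymm ?_ ?_)⟩
  · exact pullback_injective p (OrderDual.toDual.injective (hn m hm)).le
  · exact OrderDual.ofDual_le_ofDual.mpr (f.2 hm)

theorem isNoetherianObject_middle {S : ShortComplex C} (hS : S.Exact)
    [IsNoetherianObject S.X₁] [IsNoetherianObject S.X₃] : IsNoetherianObject S.X₂ := by
  rw [isNoetherianObject_iff_monotone_chain_condition]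
  intro f
  obtain ⟨n₁, hn₁⟩ := monotone_chain_condition_of_isNoetherianObject
    ⟨_, (Subobject.pullback S.f).monotone.comp f.2⟩
  obtain ⟨n₂, hn₂⟩ := monotone_chain_condition_of_isNoetherianObject
    (⟨fun i => imageSubobject ((f i).arrow ≫ S.g), fun i j h => image_arrow_mono (f.2 h)⟩ :
      ℕ →o Subobject S.X₃)
  refine ⟨max n₁ n₂, fun m hm => eq_of_pullback_eq_of_image_eq hS (f.2 hm) ?_ ?_⟩
  · exact ((hn₁ m (le_trans (le_max_left _ _) hm)).symm.trans (hn₁ _ (le_max_left _ _))).le
  · exact ((hn₂ m (le_trans (le_max_right _ _) hm)).symm.trans (hn₂ _ (le_max_right _ _))).le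

theorem isArtinianObject_middle {S : ShortComplex C} (hS : S.Exact)
    [IsArtinianObject S.X₁] [IsArtinianObject S.X₃] : IsArtinianObject S.X₂ := by
  rw [isArtinianObject_iff_antitone_chain_condition]
  intro f
  let g := fun i => OrderDual.ofDual (f i)
  have hg : ∀ {i j : ℕ}, i ≤ j → g j ≤ g i := fun h => OrderDual.ofDual_le_ofDual.mpr (f.2 h)
  obtain ⟨n₁, hn₁⟩ := antitone_chain_condition_of_isArtinianObject
    (⟨fun i => OrderDual.toDual ((Subobject.pullback S.f).obj (g i)),
      fun i j h => (Subobject.pullback S.f).monotone (hg h)⟩ : ℕ →o (Subobject S.X₁)ᵒᵈ)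
  obtain ⟨n₂, hn₂⟩ := antitone_chain_condition_of_isArtinianObject
    (⟨fun i => OrderDual.toDual (imageSubobject ((g i).arrow ≫ S.g)),
      fun i j h => image_arrow_mono (hg h)⟩ : ℕ →o (Subobject S.X₃)ᵒᵈ)
  refine ⟨max n₁ n₂, fun m hm => OrderDual.ofDual.injective
    (eq_of_pullback_eq_of_image_eq hS (hg hm) ?_ ?_).symm⟩
  · exact (OrderDual.toDual.injective ((hn₁ _ (le_max_left _ _)).symm.trans
      (hn₁ m (le_trans (le_max_left _ _) hm)))).le
  · exact (OrderDual.toDual.injective ((hn₂ _ (le_max_right _ _)).symm.trans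
      (hn₂ m (le_trans (le_max_right _ _) hm)))).le

end Groth.Agent.H3CAlg.ARS
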