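import Groth.Agent.H3CAlg.ARS.ARIso
import Groth.Agent.H3CAlg.ARS.Mem
import Mathlib.RingTheory.Noetherian.Basic

/-!
# Noetherian and Artinian components of adic systems
-/

universe w v u

open CategoryTheory CategoryTheory.Limits Opposite

namespace Groth.Agent.H3CAlg.ARS

variable {C : Type u} [Category.{v} C] [Abelian C]

theorem prop_of_quotients (P : C → Prop)
    (hP : ∀ S : ShortComplex C, S.Exact → P S.X₁ → P S.X₃ → P S.X₂) {ι : Type*} {M : C}
    (hM : P M) (s : Finset ι) : ∀ (Z : C) (μ : ι → (M ⟶ Z)),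
      (∀ (Q : C) (c : Z ⟶ Q), Epi c → (∀ a ∈ s, μ a ≫ c = 0) → P Q) → P Z := by
  classical
  induction s using Finset.induction with
  | empty => exact fun Z μ h => h Z (𝟙 Z) inferInstance (by simp)
  | insert a t _ ih =>
    intro Z μ h
    refine hP (ShortComplex.mk (μ a) (cokernel.π (μ a)) (cokernel.condition _))
      (ShortComplex.exact_of_g_is_cokernel _ (cokernelIsCokernel _)) hM ?_
    refine ih (cokernel (μ a)) (fun b => μ b ≫ cokernel.π (μ a)) fun Q c _ hc => ?_
    refine h Q (cokernel.π (μ a) ≫ c) (epi_comp _ _) fun b hb => ?_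
    rcases Finset.mem_insert.mp hb with rfl | hb
    · rw [cokernel.condition_assoc, zero_comp]
    · rw [← Category.assoc]
      exact hc b hb

variable {A : Type w} [CommRing A] [Linear A C] {J : Ideal A}

theorem exists_mul_hom {X : ARSys.PS C} (hX : ARSys.IsAdic J X) {n : ℕ} {a : A} (ha : a ∈ J ^ n) :
    ∃ μ : X.obj (op 0) ⟶ X.obj (op n),
      ARSys.tr X (Nat.zero_le n) ≫ μ = a • 𝟙 (X.obj (op n)) := by
  refine isQuot_desc (hX.2 0 n (Nat.zero_le n)) fun b hb => ?_
  rw [smul_smul]
  refine hX.1 n _ ?_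
  rw [zero_add, pow_one] at hb
  rw [pow_succ']
  exact Ideal.mul_mem_mul hb ha

theorem prop_of_isAdic [IsNoetherianRing A] (P : C → Prop)
    (hP : ∀ S : ShortComplex C, S.Exact → P S.X₁ → P S.X₃ → P S.X₂)
    (hQ : ∀ ⦃X Y : C⦄ (f : X ⟶ Y), Epi f → P X → P Y) {X : ARSys.PS C}
    (hX : ARSys.IsAdic J X) (h0 : P (X.obj (op 0))) : ∀ n : ℕ, P (X.obj (op n)) := by
  classical
  intro n
  induction n with
  | zero => exact h0
  | succ n ih =>
    obtain ⟨s, hs⟩ := IsNoetherian.noetherian (J ^ (n + 1))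
    have hmem : ∀ a : {a // a ∈ s}, (a : A) ∈ J ^ (n + 1) := fun a =>
      hs ▸ Submodule.subset_span a.2
    choose μ hμ using fun a => exists_mul_hom hX (hmem a)
    refine prop_of_quotients P hP h0 s.attach _ μ fun Q c _ hc => ?_
    have hk : ARSys.HomKilledBy (J ^ (n + 1)) c := by
      intro a ha
      have hz : ∀ b ∈ s, b • c = 0 := fun b hb => by
        rw [← Category.id_comp c, ← Linear.smul_comp, ← hμ ⟨b, hb⟩, Category.assoc,
          hc _ (Finset.mem_attach _ _), comp_zero]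
      rw [← hs] at ha
      exact Submodule.span_induction hz (zero_smul A c)
        (fun x y _ _ hx hy => by rw [add_smul, hx, hy, add_zero])
        (fun r x _ hx => by rw [smul_eq_mul, mul_smul, hx, smul_zero]) ha
    obtain ⟨ψ, rfl⟩ := isQuot_desc (hX.2 n (n + 1) (Nat.le_succ n)) hk
    exact hQ ψ (epi_of_epi (ARSys.tr X (Nat.le_succ n)) ψ) ih

theorem isNoetherianObject_of_isAdic [IsNoetherianRing A] {X : ARSys.PS C}
    (hX : ARSys.IsAdic J X) (h0 : IsNoetherianObject (X.obj (op 0))) (n : ℕ) :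
    IsNoetherianObject (X.obj (op n)) :=
  prop_of_isAdic (fun Z : C => IsNoetherianObject Z)
    (fun _ hS _ _ => isNoetherianObject_middle hS)
    (fun _ _ f _ _ => isNoetherianObject_of_epi f) hX h0 n

theorem isArtinianObject_of_isAdic [IsNoetherianRing A] {X : ARSys.PS C}
    (hX : ARSys.IsAdic J X) (h0 : IsArtinianObject (X.obj (op 0))) (n : ℕ) :
    IsArtinianObject (X.obj (op n)) :=
  prop_of_isAdic (fun Z : C => IsArtinianObject Z)
    (fun _ hS _ _ => isArtinianObject_middle hS)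
    (fun _ _ f _ _ => isArtinianObject_of_epi f) hX h0 n

end Groth.Agent.H3CAlg.ARS
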